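import Cfsg.Agent.H91.CI.Basic
import Cfsg.Agent.Bridge.Bender
import Cfsg.Agent.H76.PostBender.Trans
import Cfsg.Agent.Linear.Order
import Cfsg.Agent.S1163

/-!
# Simple groups with central intersections and a strongly embedded subgroup

Bender's theorem gives: the Sylow 2-subgroups are TI, each is transitive on the others, its involutions are
central and permuted transitively by the normaliser.
-/

set_option autoImplicit false
set_option linter.style.haveILetI false
set_option linter.unusedSectionVars false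

namespace Cfsg.Agent.H91.CI

open Subgroup
open scoped Pointwise
open Cfsg.Agent.H39
open Cfsg.Agent.H76.PostBender

universe u

variable {X : Type u} [Group X] [Finite X]

theorem exists_ne_sylow [IsSimpleGroup X] (hna : ¬ IsMulCommutative X) (S : Sylow 2 X)
    (hS : (S : Subgroup X) ≠ ⊥) : ∃ T : Sylow 2 X, T ≠ S := by
  by_contra hall
  push Not at hall
  haveI : (S : Subgroup X).Normal := normalizer_eq_top_iff.mp (eq_top_iff.mpr fun g _ =>
    Sylow.smul_eq_iff_mem_normalizer.mp (hall _))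
  rcases (inferInstance : (S : Subgroup X).Normal).eq_bot_or_eq_top with e | e
  · exact hS e
  · haveI : Fact (Nat.Prime 2) := ⟨Nat.prime_two⟩
    haveI : Group.IsNilpotent X := by
      have hp : IsPGroup 2 (⊤ : Subgroup X) := e ▸ S.isPGroup'
      exact (hp.of_equiv topEquiv).isNilpotent
    rcases (inferInstance : (center X).Normal).eq_bot_or_eq_top with e | e
    · haveI : Nontrivial X := IsSimpleGroup.toNontrivial
      exact (Group.IsNilpotent.center_ne_bot (G := X)) e
    · exact hna ⟨⟨fun a b => (mem_center_iff.mp (e ▸ mem_top b : b ∈ center X) a)⟩⟩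

theorem sylow_ne_bot {S : Sylow 2 X} (hS : ¬ IsMulCommutative ↥(S : Subgroup X)) : (S : Subgroup X) ≠ ⊥ :=
  fun e => hS ⟨⟨fun a b => by
    have ha : (a : X) = 1 := mem_bot.mp (e ▸ a.2)
    have hb : (b : X) = 1 := mem_bot.mp (e ▸ b.2)
    exact Subtype.ext (by simp [ha, hb])⟩⟩

theorem not_comm_of_sylow_ne {S : Sylow 2 X} (hS : ¬ IsMulCommutative ↥(S : Subgroup X)) :
    ¬ IsMulCommutative X := fun h => hS ⟨⟨fun a b => Subtype.ext (h.is_comm.comm (a : X) b)⟩⟩

/-- The facts used about a simple group with a strongly embedded subgroup. -/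
structure BenderFacts (X : Type u) [Group X] : Prop where
  ti : ∀ S T : Sylow 2 X, S ≠ T → (S : Subgroup X) ⊓ (T : Subgroup X) = ⊥
  trans : SylTrans 2 X
  conj : ∀ S : Sylow 2 X, ∀ a ∈ (S : Subgroup X), ∀ b ∈ (S : Subgroup X), orderOf a = 2 → orderOf b = 2 →
    ∃ n ∈ normalizer ((S : Subgroup X) : Set X), n * a * n⁻¹ = b
  list : Cfsg.Lie.IsoSuzuki X ∨
    (∃ (F : Type) (_ : Field F) (_ : Fintype F) (q : ℕ), Fintype.card F = q ^ 2 ∧ Even q ∧ 4 ≤ q ∧
      Nonempty (X ≃* Cfsg.PSU 3 F q)) ∨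
    (∃ (F : Type) (_ : Field F) (_ : Fintype F), CharP F 2 ∧ 8 ≤ Fintype.card F ∧
      Nonempty (X ≃* Matrix.ProjectiveSpecialLinearGroup (Fin 2) F))

theorem benderFacts [IsSimpleGroup X] (S₀ : Sylow 2 X) (hS₀ : ¬ IsMulCommutative ↥(S₀ : Subgroup X))
    (H : Subgroup X) (hH : Cfsg.IsStronglyEmbedded H) : BenderFacts X := by
  haveI : Fact (Nat.Prime 2) := ⟨Nat.prime_two⟩
  have hna : ∃ a b : X, a * b ≠ b * a := by
    by_contra hc
    push Not at hc
    exact not_comm_of_sylow_ne hS₀ ⟨⟨hc⟩⟩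
  have hB := Bridge.bender X hna H hH
  obtain ⟨P, rfl⟩ := eq_normalizer hB hH
  have hmem : ∀ {u : X}, orderOf u = 2 → ∀ {g : X}, u ∈ ((g • P : Sylow 2 X) : Subgroup X) →
      g⁻¹ * u * g ∈ normalizer ((P : Subgroup X) : Set X) := by
    rintro u - g ⟨y, hy, rfl⟩
    show g⁻¹ * (g * y * g⁻¹) * g ∈ normalizer ((P : Subgroup X) : Set X)
    rw [show g⁻¹ * (g * y * g⁻¹) * g = y by group]
    exact le_normalizer hy
  have huniq : ∀ u : X, orderOf u = 2 → ∀ S T : Sylow 2 X, u ∈ (S : Subgroup X) → u ∈ (T : Subgroup X) →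
      S = T := by
    intro u hu S T huS huT
    obtain ⟨g, rfl⟩ := MulAction.exists_smul_eq X P S
    obtain ⟨k, rfl⟩ := MulAction.exists_smul_eq X P T
    have ha : orderOf (g⁻¹ * u * g) = 2 := by
      have := orderOf_conj (g := g⁻¹) (a := u)
      rw [inv_inv] at this
      rw [this, hu]
    have hk : k⁻¹ * g ∈ normalizer ((P : Subgroup X) : Set X) := by
      refine se_mem_of_conj hH ha (hmem hu huS) ?_
      rw [show k⁻¹ * g * (g⁻¹ * u * g) * (k⁻¹ * g)⁻¹ = k⁻¹ * u * k by group]
      exact hmem hu huT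
    have := Sylow.smul_eq_iff_mem_normalizer.mpr hk
    rw [mul_smul, inv_smul_eq_iff] at this
    exact this
  have hti : ∀ S T : Sylow 2 X, S ≠ T → (S : Subgroup X) ⊓ (T : Subgroup X) = ⊥ := by
    intro S T hne
    by_contra hb
    haveI : Nontrivial ↥((S : Subgroup X) ⊓ (T : Subgroup X)) := (nontrivial_iff_ne_bot _).mpr hb
    obtain ⟨n, hn, hcard⟩ := (S.isPGroup'.to_le (inf_le_left : (S : Subgroup X) ⊓ (T : Subgroup X) ≤ _)).nontrivial_iff_card.mp
      inferInstance
    obtain ⟨x, hx⟩ := exists_prime_orderOf_dvd_card' 2 (hcard ▸ dvd_pow_self 2 hn.ne')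
    exact hne (huniq x (by rwa [Subgroup.orderOf_coe]) S T x.2.1 x.2.2)
  refine ⟨hti, sylTrans_of_bender hB, fun S a ha b hb ha2 hb2 => ?_, ?_⟩
  · obtain ⟨g, hg⟩ := isConj_iff.mp (se_involutions_conj hH ha2 hb2)
    refine ⟨g, Sylow.smul_eq_iff_mem_normalizer.mp (huniq b hb2 _ _ ?_ hb), hg⟩
    exact hg ▸ (conj_mem_sylow_iff.mpr ha)
  · rcases hB with ⟨F, i1, i2, hc, h4, ⟨e⟩⟩ | h | h
    · by_cases h8 : 8 ≤ Fintype.card F
      · exact Or.inr (Or.inr ⟨F, i1, i2, hc, h8, ⟨e⟩⟩)
      · exfalso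
        obtain ⟨k, -, hk⟩ := FiniteField.card F 2
        have h44 : Fintype.card F = 4 := by
          rw [hk] at h4 h8 ⊢
          have : (k : ℕ) < 3 := by
            by_contra h3
            exact h8 ((show (8 : ℕ) = 2 ^ 3 from rfl) ▸ Nat.pow_le_pow_right two_pos (not_lt.mp h3))
          interval_cases (k : ℕ) <;> simp_all
        have hcard : Nat.card X = 60 := by
          have h := Linear.card_PSL_two_mul (F := F)
          rw [h44] at h
          rw [Nat.card_congr e.toEquiv]
          norm_num at h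
          omega
        have h4' : Nat.card ↥(S₀ : Subgroup X) = 2 ^ 2 := by
          rw [S₀.card_eq_multiplicity, hcard]
          rw [show (60 : ℕ) = 2 ^ 2 * 15 from rfl, Nat.factorization_mul (by norm_num) (by norm_num),
            Finsupp.add_apply, Nat.Prime.factorization_pow Nat.prime_two, Finsupp.single_eq_same,
            Nat.factorization_eq_zero_of_not_dvd (by norm_num : ¬ 2 ∣ 15)]
        exact hS₀ (IsPGroup.isMulCommutative_of_card_eq_prime_sq h4')
    · exact Or.inl h
    · exact Or.inr (Or.inl h)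

theorem BenderFacts.card_normalizer_eight (hSz : Cfsg.Lie.IsoSuzuki X)
    (h8 : ∀ (F : Type) [Field F] [Fintype F] (m : ℕ), 2 ≤ m → Fintype.card F = 2 ^ (2 * m + 1) →
      IsEmpty (X ≃* ↥(Cfsg.Lie.Sz F (2 ^ (m + 1))))) (S : Sylow 2 X) :
    Nat.card ↥(S : Subgroup X) = 64 ∧ Nat.card ↥(normalizer ((S : Subgroup X) : Set X)) = 448 := by
  haveI : Fact (Nat.Prime 2) := ⟨Nat.prime_two⟩
  obtain ⟨F, _, _, m, hm, hF, ⟨e⟩⟩ := hSz
  obtain rfl : m = 1 := by
    by_contra hne
    exact (h8 F m (by omega) hF).false e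
  obtain ⟨hcard₀, T, hN₀, -⟩ := S1163.result le_rfl hF
  have hcard : Nat.card ↥(Cfsg.Lie.Sz F (2 ^ (1 + 1))) = 29120 := hcard₀.trans (by norm_num)
  have hN : Nat.card ↥(normalizer ((T : Subgroup ↥(Cfsg.Lie.Sz F (2 ^ (1 + 1)))) :
      Set ↥(Cfsg.Lie.Sz F (2 ^ (1 + 1))))) = 448 := hN₀.trans (by norm_num)
  have hX' : Nat.card X = 29120 := by rw [Nat.card_congr e.toEquiv]; exact hcard
  constructor
  · rw [S.card_eq_multiplicity, hX']
    rw [show (29120 : ℕ) = 2 ^ 6 * 455 from rfl, Nat.factorization_mul (by norm_num) (by norm_num),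
      Finsupp.add_apply, Nat.Prime.factorization_pow Nat.prime_two, Finsupp.single_eq_same,
      Nat.factorization_eq_zero_of_not_dvd (by norm_num : ¬ 2 ∣ 455)]
    norm_num
  · have h1 : Nat.card (Sylow 2 ↥(Cfsg.Lie.Sz F (2 ^ (1 + 1)))) = Nat.card (Sylow 2 X) := by
      have h1 := T.card_eq_index_normalizer
      have h2 := S.card_eq_index_normalizer
      refine le_antisymm ?_ ?_
      · exact Nat.card_le_card_of_injective
          (fun P : Sylow 2 ↥(Cfsg.Lie.Sz F (2 ^ (1 + 1))) => P.comapOfInjective e.toMonoidHom e.injective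
            (by rw [MonoidHom.range_eq_top.mpr e.surjective]; exact le_top))
          fun P R hPR => Sylow.ext (comap_injective e.surjective (congrArg Sylow.toSubgroup hPR))
      · exact Nat.card_le_card_of_injective
          (fun P : Sylow 2 X => P.comapOfInjective e.symm.toMonoidHom e.symm.injective
            (by rw [MonoidHom.range_eq_top.mpr e.symm.surjective]; exact le_top))
          fun P R hPR => Sylow.ext (comap_injective e.symm.surjective (congrArg Sylow.toSubgroup hPR))
    have h2 := (normalizer ((T : Subgroup ↥(Cfsg.Lie.Sz F (2 ^ (1 + 1)))) : Set ↥(Cfsg.Lie.Sz F (2 ^ (1 + 1))))).card_mul_index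
    have h3 := (normalizer ((S : Subgroup X) : Set X)).card_mul_index
    simp only [Sylow.coe_coe] at h2 h3 hN ⊢
    rw [← T.card_eq_index_normalizer, hN, h1, hcard] at h2
    rw [← S.card_eq_index_normalizer, hX'] at h3
    have : 0 < Nat.card (Sylow 2 X) := Nat.card_pos
    nlinarith

end Cfsg.Agent.H91.CI
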