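import Cfsg.Agent.H91.CI.Basic
import Cfsg.Agent.Components.Layer
import Cfsg.Agent.Components.PLocal
import Cfsg.Agent.Components.PComponent
import Cfsg.Agent.Components.CyclicSylow
import Cfsg.Agent.S4593
import Cfsg.Agent.S0542

/-!
# Components and Sylow 2-subgroups

General facts used in the local theorem for groups with central Sylow 2-intersections.
-/

set_option autoImplicit false
set_option linter.style.haveILetI false
set_option linter.unusedSectionVars false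

namespace Cfsg.Agent.H91.CI

open Subgroup Cfsg.Agent
open scoped Pointwise commutatorElement IsMulCommutative

variable {H : Type*} [Group H] [Finite H]

local instance fact_two_comp : Fact (Nat.Prime 2) := ⟨Nat.prime_two⟩

omit [Finite H] in
theorem mem_smul_iff {T : Sylow 2 H} {g x : H} :
    x ∈ ((g • T : Sylow 2 H) : Subgroup H) ↔ g⁻¹ * x * g ∈ (T : Subgroup H) := by
  conv_lhs => rw [show x = g * (g⁻¹ * x * g) * g⁻¹ by group]
  exact conj_mem_sylow_iff

omit [Finite H] in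
/-- An element inducing central commutators on a perfect subgroup centralises it. -/
theorem mem_centralizer_of_commutator_center {K : Subgroup H} (hK : ⁅K, K⁆ = K) {g : H}
    (hg : ∀ k ∈ K, g * k * g⁻¹ * k⁻¹ ∈ K ∧ ∀ l ∈ K, Commute l (g * k * g⁻¹ * k⁻¹)) :
    g ∈ centralizer (K : Set H) := by
  have hle : ⁅K, K⁆ ≤ centralizer ({g} : Set H) := by
    rw [commutator_le]
    intro a ha b hb
    refine mem_centralizer_singleton_iff.mpr ?_
    obtain ⟨hzK, hz⟩ := hg a ha
    obtain ⟨hwK, hw⟩ := hg b hb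
    set z := g * a * g⁻¹ * a⁻¹ with hzdef
    set w := g * b * g⁻¹ * b⁻¹ with hwdef
    have hc : ⁅a, b⁆ ∈ K := mul_mem (mul_mem (mul_mem ha hb) (inv_mem ha)) (inv_mem hb)
    have hm : a * (w * b) * a⁻¹ ∈ K := mul_mem (mul_mem ha (mul_mem hwK hb)) (inv_mem ha)
    have e : g * ⁅a, b⁆ * g⁻¹ = ⁅a, b⁆ := by
      calc g * ⁅a, b⁆ * g⁻¹ = z * (a * (w * b) * a⁻¹) * z⁻¹ * (b⁻¹ * w⁻¹) := by
            rw [hzdef, hwdef, commutatorElement_def]; group
        _ = a * (w * b) * a⁻¹ * (b⁻¹ * w⁻¹) := by rw [← (hz _ hm).eq, mul_inv_cancel_right]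
        _ = a * w * (b * a⁻¹ * b⁻¹) * w⁻¹ := by group
        _ = w * a * (b * a⁻¹ * b⁻¹) * w⁻¹ := by rw [(hw a ha).eq]
        _ = w * ⁅a, b⁆ * w⁻¹ := by rw [commutatorElement_def]; group
        _ = ⁅a, b⁆ := by rw [← (hw _ hc).eq, mul_inv_cancel_right]
    exact (mul_inv_eq_iff_eq_mul.mp e).symm
  rw [hK] at hle
  exact mem_centralizer_iff.mpr fun k hk => mem_centralizer_singleton_iff.mp (hle hk)

theorem exists_orderOf_pow {S : Sylow 2 H} {x : H} (hx : x ∈ (S : Subgroup H)) :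
    ∃ k : ℕ, x ^ 2 ^ k = 1 := by
  obtain ⟨k, hk⟩ := S.isPGroup' ⟨x, hx⟩
  exact ⟨k, congrArg Subtype.val hk⟩

omit [Finite H] in
theorem isPGroup_zpowers {x : H} {k : ℕ} (hx : x ^ 2 ^ k = 1) : IsPGroup 2 ↥(zpowers x) := by
  rintro ⟨y, hy⟩
  obtain ⟨i, rfl⟩ := mem_zpowers_iff.1 hy
  refine ⟨k, Subtype.ext ?_⟩
  show (x ^ i) ^ 2 ^ k = 1
  rw [← zpow_natCast, ← zpow_mul, mul_comm, zpow_mul, zpow_natCast, hx, one_zpow]

/-- A 2-element commuting with a Sylow 2-subgroup lies in it. -/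
theorem mem_of_commutes {T : Sylow 2 H} {x : H} {k : ℕ} (hx : x ^ 2 ^ k = 1)
    (hc : ∀ t ∈ (T : Subgroup H), Commute t x) : x ∈ (T : Subgroup H) :=
  mem_of_mem_normalizer T (isPGroup_zpowers hx) (zpowers_le.mpr (centralizer_le_normalizer _
    (mem_centralizer_iff.mpr fun t ht => (hc t ht).eq))) (mem_zpowers x)

theorem pCore_le_sylow (T : Sylow 2 H) : Cfsg.pCore 2 H ≤ (T : Subgroup H) := Cores.pCore_le_sylow T

omit [Finite H] in
theorem component_perfect_inst {L : Subgroup H} (hL : Cfsg.IsComponent L) : Group.IsPerfect ↥L := hL.2.1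

/-- The centre of a component lies in the 2-core. -/
theorem center_component_le (hO : Cfsg.oddCore H = ⊥) {L : Subgroup H} (hL : Cfsg.IsComponent L) {x : H}
    (hx : x ∈ L) (hc : ∀ l ∈ L, Commute l x) : x ∈ Cfsg.pCore 2 H := by
  have h1 : (center ↥L).map L.subtype ≤ Cfsg.fittingSubgroup H :=
    Components.subnormal_nilpotent_le_fitting
      (Components.isSubnormal_map_subtype (Subgroup.Normal.isSubnormal inferInstance) hL.1)
      (Components.isNilpotent_map _ _ inferInstance)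
  exact Components.fitting_le_pCore (p := 2) hO (h1 ⟨⟨x, hx⟩, mem_center_iff.mpr fun l =>
    Subtype.ext (hc l l.2).eq, rfl⟩)

/-- An element centralising every component and the 2-core lies in the 2-core. -/
theorem mem_pCore_of_centralizes (hO : Cfsg.oddCore H = ⊥) {c : H}
    (hL : ∀ L : Subgroup H, Cfsg.IsComponent L → c ∈ centralizer (L : Set H))
    (hR : c ∈ centralizer (Cfsg.pCore 2 H : Set H)) : c ∈ Cfsg.pCore 2 H := by
  set F := Cfsg.generalizedFittingSubgroup H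
  have hF : F ≤ centralizer ({c} : Set H) := by
    refine sup_le (sSup_le fun L hL' l hl => mem_centralizer_singleton_iff.mpr
      (mem_centralizer_iff.mp (hL L hL') l hl)) fun f hf => mem_centralizer_singleton_iff.mpr ?_
    exact mem_centralizer_iff.mp hR f (Components.fitting_le_pCore (p := 2) hO hf)
  have hc : c ∈ centralizer (F : Set H) :=
    mem_centralizer_iff.mpr fun y hy => mem_centralizer_singleton_iff.mp (hF hy)
  set N : Subgroup H := F ⊓ centralizer (F : Set H)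
  haveI : IsMulCommutative ↥N := ⟨⟨fun a b => Subtype.ext (mem_centralizer_iff.mp b.2.2 a a.2.1)⟩⟩
  exact Components.fitting_le_pCore (p := 2) hO
    (Components.normal_nilpotent_le_fitting (N := N) inferInstance inferInstance
      ⟨Components.centralizer_genFitting_le hc, hc⟩)

theorem exists_sylow_component {L : Subgroup H} (hL : Cfsg.IsComponent L) (S : Sylow 2 H) :
    ∃ P : Sylow 2 ↥L, (P : Subgroup ↥L) = (S : Subgroup H).subgroupOf L :=
  S0542.result 2 L hL.1 S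

/-- A Sylow 2-subgroup meets a component outside its centre. -/
theorem exists_noncentral (hO : Cfsg.oddCore H = ⊥) {L : Subgroup H} (hL : Cfsg.IsComponent L)
    (S : Sylow 2 H) : ∃ p ∈ (S : Subgroup H), p ∈ L ∧ ¬ ∀ l ∈ L, Commute l p := by
  haveI := component_perfect_inst hL
  obtain ⟨P, hP⟩ := exists_sylow_component hL S
  by_contra hall
  push Not at hall
  have hcen : ∀ x ∈ (P : Subgroup ↥L), x ∈ center ↥L := fun x hx => mem_center_iff.mpr fun l =>
    Subtype.ext (hall x (by rw [hP] at hx; exact hx) x.2 l l.2).eq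
  haveI : IsMulCommutative ↥(P : Subgroup ↥L) :=
    ⟨⟨fun a b => Subtype.ext (mem_center_iff.mp (hcen b b.2) a)⟩⟩
  obtain ⟨z, hz⟩ := exists_prime_orderOf_dvd_card' 2
    (P.dvd_card_of_dvd_card (Components.dvd_card_component (p := 2) hO hL))
  have hz2 : (z : ↥L) ^ 2 = 1 := by
    have := pow_orderOf_eq_one z
    rw [hz] at this
    exact congrArg Subtype.val this
  rw [show z = 1 from Subtype.ext (Components.eq_one_of_perfect_center P (hcen z z.2) hz2), orderOf_one] at hz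
  exact absurd hz (by norm_num)

/-- A component moves the part of a Sylow 2-subgroup inside it. -/
theorem exists_moved (hO : Cfsg.oddCore H = ⊥) {L : Subgroup H} (hL : Cfsg.IsComponent L) (S : Sylow 2 H) :
    ∃ k ∈ L, ((k • S : Sylow 2 H) : Subgroup H) ⊓ L ≠ (S : Subgroup H) ⊓ L := by
  obtain ⟨p, hpS, hpL, hp⟩ := exists_noncentral hO hL S
  by_contra hall
  push Not at hall
  haveI : ((S : Subgroup H).subgroupOf L).Normal := by
    refine ⟨fun x hx k => ?_⟩
    have h1 : (k : H) * x * (k : H)⁻¹ ∈ (((k : H) • S : Sylow 2 H) : Subgroup H) ⊓ L :=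
      ⟨conj_mem_sylow_iff.mpr hx, L.mul_mem (L.mul_mem k.2 x.2) (L.inv_mem k.2)⟩
    rw [hall k k.2] at h1
    exact h1.1
  obtain ⟨P, hP⟩ := exists_sylow_component hL S
  by_cases htop : (S : Subgroup H).subgroupOf L = ⊤
  · refine Components.qs_not_isSolvable hL.2 ?_
    haveI : Group.IsNilpotent ↥L := by
      have : IsPGroup 2 ↥(⊤ : Subgroup ↥L) := htop ▸ hP ▸ P.isPGroup'
      exact (this.of_equiv topEquiv).isNilpotent
    infer_instance
  · refine hp fun l hl => ?_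
    have hc := Components.qs_normal_le_center hL.2 _ htop (show (⟨p, hpL⟩ : ↥L) ∈ _ from hpS)
    exact congrArg Subtype.val (mem_center_iff.mp hc ⟨l, hl⟩)

/-- A 2-element acting trivially on a Sylow 2-subgroup with abelian image of a component is inner on it. -/
theorem exists_inner (hO : Cfsg.oddCore H = ⊥) {L : Subgroup H} (hL : Cfsg.IsComponent L) (S : Sylow 2 H)
    {s : H} (hs : s ∈ (S : Subgroup H)) (hsN : s ∈ normalizer (L : Set H))
    (hab : ∀ a ∈ (S : Subgroup H), a ∈ L → ∀ b ∈ (S : Subgroup H), b ∈ L →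
      ∀ l ∈ L, Commute l (a * b * a⁻¹ * b⁻¹))
    (hfix : ∀ p ∈ (S : Subgroup H), p ∈ L → ∀ l ∈ L, Commute l (s * p * s⁻¹ * p⁻¹)) :
    ∃ k ∈ (S : Subgroup H), k ∈ L ∧ s * k⁻¹ ∈ centralizer (L : Set H) := by
  haveI hperf := component_perfect_inst hL
  haveI hsimp : IsSimpleGroup (↥L ⧸ center ↥L) := hL.2.2
  obtain ⟨P, hP⟩ := exists_sylow_component hL S
  set π := QuotientGroup.mk' (center ↥L) with hπ
  have hπs : Function.Surjective π := QuotientGroup.mk'_surjective _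
  have hπ1 : ∀ {x : ↥L}, π x = 1 ↔ ∀ l ∈ L, Commute l (x : H) := fun {x} => by
    rw [hπ, QuotientGroup.mk'_apply, QuotientGroup.eq_one_iff, mem_center_iff]
    exact ⟨fun h l hl => congrArg Subtype.val (h ⟨l, hl⟩), fun h l => Subtype.ext (h l l.2).eq⟩
  set Q := P.mapSurjective hπs with hQ
  have hmemQ : ∀ x : ↥L, (x : H) ∈ (S : Subgroup H) → π x ∈ (Q : Subgroup (↥L ⧸ center ↥L)) := fun x hx => by
    rw [hQ, Sylow.coe_mapSurjective]
    exact mem_map_of_mem π (by rw [hP]; exact hx)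
  have hQP : ∀ y ∈ (Q : Subgroup (↥L ⧸ center ↥L)), ∃ x : ↥L, (x : H) ∈ (S : Subgroup H) ∧ π x = y := fun y hy => by
    rw [hQ, Sylow.coe_mapSurjective] at hy
    obtain ⟨x, hx, rfl⟩ := hy
    rw [hP] at hx
    exact ⟨x, hx, rfl⟩
  have hQc : IsMulCommutative ↥(Q : Subgroup (↥L ⧸ center ↥L)) := ⟨⟨fun a b => Subtype.ext (by
    obtain ⟨x, hx, ex⟩ := hQP a a.2
    obtain ⟨y, hy, ey⟩ := hQP b b.2
    have : π (x * y * x⁻¹ * y⁻¹) = 1 := hπ1.mpr (hab x hx x.2 y hy y.2)
    show (a : ↥L ⧸ center ↥L) * b = b * a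
    rw [← ex, ← ey]
    rw [map_mul, map_mul, map_mul, map_inv, map_inv, mul_inv_eq_one, mul_inv_eq_iff_eq_mul] at this
    exact this)⟩⟩
  have hZ : center (↥L ⧸ center ↥L) = ⊥ :=
    (hsimp.eq_bot_or_eq_top_of_normal _ inferInstance).resolve_right fun e =>
      Components.qs_quotient_not_comm hL.2
        ⟨⟨fun a b => mem_center_iff.mp (e ▸ mem_top b : b ∈ center (↥L ⧸ center ↥L)) a⟩⟩
  have hcore : Cfsg.pPrimeCore 2 (↥L ⧸ center ↥L) = ⊥ :=
    (hsimp.eq_bot_or_eq_top_of_normal _ inferInstance).resolve_right fun e => by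
      have hcop := Cores.coprime_card_pPrimeCore (p := 2) (G := ↥L ⧸ center ↥L)
      rw [e, card_top] at hcop
      obtain ⟨x, hxS, hxL, hx⟩ := exists_noncentral hO hL S
      have hx1 : π ⟨x, hxL⟩ ≠ 1 := fun h => hx (hπ1.mp h)
      obtain ⟨k, hk⟩ := Q.isPGroup' ⟨_, hmemQ ⟨x, hxL⟩ hxS⟩
      have hd : orderOf (π ⟨x, hxL⟩) ∣ 2 ^ k :=
        orderOf_dvd_of_pow_eq_one (congrArg Subtype.val hk)
      exact hx1 (orderOf_eq_one_iff.mp (Nat.eq_one_of_dvd_coprimes (hcop.pow_right k).symm hd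
        (orderOf_dvd_natCard _)))
  set β : MulAut ↥L := L.normalizerMonoidHom ⟨s, hsN⟩ with hβ
  let α : MulAut (↥L ⧸ center ↥L) :=
    QuotientGroup.congr (center ↥L) (center ↥L) β (characteristic_iff_map_eq.mp inferInstance β)
  have hα : ∀ x : ↥L, α (π x) = π (β x) := fun x => rfl
  have hαpow : ∀ (n : ℕ) (x : ↥L), (α ^ n) (π x) = π ((β ^ n) x) := by
    intro n
    induction n with
    | zero => intro x; rfl
    | succ n ih => intro x; rw [pow_succ', MulAut.mul_apply, ih, hα, pow_succ', MulAut.mul_apply]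
  obtain ⟨k, hk⟩ := exists_orderOf_pow hs
  have hαk : α ^ 2 ^ k = 1 := by
    refine MulEquiv.ext fun y => ?_
    obtain ⟨x, rfl⟩ := hπs y
    have : β ^ 2 ^ k = 1 := by
      rw [hβ, ← map_pow, show (⟨s, hsN⟩ : ↥(normalizer (L : Set H))) ^ 2 ^ k = 1 from Subtype.ext hk, map_one]
    rw [hαpow, this]
    rfl
  obtain ⟨j, -, hj⟩ := (Nat.dvd_prime_pow Nat.prime_two).1 (orderOf_dvd_of_pow_eq_one hαk)
  have hfix' : ∀ y ∈ (Q : Subgroup (↥L ⧸ center ↥L)), α y = y := by
    intro y hy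
    obtain ⟨x, hx, rfl⟩ := hQP y hy
    have : π (β x * x⁻¹) = 1 := hπ1.mpr (hfix x hx x.2)
    rw [map_mul, map_inv, mul_inv_eq_one] at this
    rw [hα, this]
  obtain ⟨g, hg⟩ := S4593.result hZ hcore Q hQc α ⟨j, hj⟩ hfix'
  have hgk : g ^ 2 ^ k = 1 := by
    have h1 : MulAut.conj (g ^ 2 ^ k) = 1 := by
      rw [map_pow, show MulAut.conj g = α from MulEquiv.ext fun x => (hg x).symm, hαk]
    have : g ^ 2 ^ k ∈ center (↥L ⧸ center ↥L) := mem_center_iff.mpr fun y => by
      have h2 : g ^ 2 ^ k * y * (g ^ 2 ^ k)⁻¹ = y := DFunLike.congr_fun h1 y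
      exact (mul_inv_eq_iff_eq_mul.1 h2).symm
    rwa [hZ, mem_bot] at this
  have hgQ : g ∈ (Q : Subgroup (↥L ⧸ center ↥L)) := mem_of_commutes hgk fun t ht => by
    have := hg t
    rw [hfix' t ht] at this
    exact (eq_mul_inv_iff_mul_eq.mp this)
  obtain ⟨x, hxS, hxg⟩ := hQP g hgQ
  refine ⟨x, hxS, x.2, mem_centralizer_of_commutator_center (Components.component_perfect hL) fun l hl => ?_⟩
  have hsK : s * (x : H)⁻¹ ∈ normalizer (L : Set H) := mul_mem hsN (le_normalizer (inv_mem x.2))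
  have hmem : s * (x : H)⁻¹ * l * (s * (x : H)⁻¹)⁻¹ ∈ L := (mem_normalizer_iff.mp hsK l).mp hl
  refine ⟨mul_mem hmem (inv_mem hl), fun l' hl' => ?_⟩
  have e : π (β (x⁻¹ * ⟨l, hl⟩ * x) * ⟨l, hl⟩⁻¹) = 1 := by
    rw [map_mul, map_inv, mul_inv_eq_one, ← hα, hg, map_mul, map_mul, map_inv, hxg]
    group
  have := hπ1.mp e l' hl'
  have ev : ((β (x⁻¹ * ⟨l, hl⟩ * x) * ⟨l, hl⟩⁻¹ : ↥L) : H) = s * (x : H)⁻¹ * l * (s * (x : H)⁻¹)⁻¹ * l⁻¹ := by
    show s * ((x : H)⁻¹ * l * x) * s⁻¹ * l⁻¹ = _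
    group
  rwa [ev] at this

end Cfsg.Agent.H91.CI
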