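import Cfsg.Agent.H91.CI.Bender
import Cfsg.Agent.H74.SchurBasic
import Cfsg.Agent.Coprime.Abelian
import Cfsg.Agent.S2089
import Cfsg.Agent.S2111
import Cfsg.Agent.S2086

/-!
# The centre of the component

A perfect central extension, by a 2-group, of a simple group with central intersections and a strongly embedded
subgroup, in which some preimage of an involution is central in a Sylow 2-subgroup, is trivial.
-/

set_option autoImplicit false
set_option linter.style.haveILetI false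
set_option linter.unusedSectionVars false

namespace Cfsg.Agent.H91.CI

open Subgroup
open scoped Pointwise

universe u

variable {K : Type u} [Group K] [Finite K] {X : Type u} [Group X] [Finite X]

/-- An exponent two group maps onto a group of order 2 without killing a given element. -/
theorem exists_hom_two {Γ : Type*} [Group Γ] [Finite Γ] (hexp : ∀ a : Γ, a * a = 1) {r : Γ} (hr : r ≠ 1) :
    ∃ φ : Γ →* Multiplicative (ZMod 2), φ r ≠ 1 := by
  have hcomm : ∀ a b : Γ, a * b = b * a := fun a b => by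
    have h1 := hexp (a * b)
    have ha : a⁻¹ = a := inv_eq_of_mul_eq_one_right (hexp a)
    have hb : b⁻¹ = b := inv_eq_of_mul_eq_one_right (hexp b)
    have h2 : (a * b)⁻¹ = a * b := inv_eq_of_mul_eq_one_right h1
    rw [mul_inv_rev, ha, hb] at h2
    exact h2.symm
  obtain ⟨M, hrM, hmax⟩ : ∃ M : Subgroup Γ, r ∉ M ∧ ∀ N, M < N → r ∈ N := by
    obtain ⟨M, hM, hmax⟩ := (Set.toFinite {M : Subgroup Γ | r ∉ M}).exists_maximal
      ⟨⊥, by simpa using hr⟩
    exact ⟨M, hM, fun N hN => by_contra fun hrN => hN.not_ge (hmax hrN hN.le)⟩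
  have hidx : M.index = 2 := by
    rw [index_eq_two_iff]
    refine ⟨r, fun b => ?_⟩
    by_cases hb : b ∈ M
    · exact Or.inr ⟨hb, fun h => hrM (by
        have := mul_mem (inv_mem hb) h
        rwa [inv_mul_cancel_left] at this)⟩
    refine Or.inl ⟨?_, hb⟩
    have hlt : M < M ⊔ zpowers b :=
      lt_of_le_of_ne le_sup_left fun e => hb (e ▸ mem_sup_right (mem_zpowers b))
    have hr' := hmax _ hlt
    haveI : M.Normal := ⟨fun x hx g => by rw [hcomm g x, mul_inv_cancel_right]; exact hx⟩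
    obtain ⟨m, hm, z, hz, e⟩ := (mem_sup_of_normal_left).mp hr'
    obtain ⟨i, rfl⟩ := mem_zpowers_iff.mp hz
    rcases Int.even_or_odd i with ⟨j, rfl⟩ | ⟨j, rfl⟩
    · exfalso
      rw [← two_mul, zpow_mul, zpow_two, hexp b, one_zpow, mul_one] at e
      exact hrM (e ▸ hm)
    · rw [zpow_add, zpow_mul, zpow_two, hexp b, one_zpow, one_mul, zpow_one] at e
      rw [← e, hcomm m b, ← mul_assoc, hexp b, one_mul]
      exact hm
  haveI : M.Normal := normal_of_index_eq_two hidx
  have hcard : Nat.card (Γ ⧸ M) = 2 := hidx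
  haveI : Fact (Nat.Prime 2) := ⟨Nat.prime_two⟩
  let e : Γ ⧸ M ≃* Multiplicative (ZMod 2) := mulEquivOfPrimeCardEq hcard
    (by rw [Nat.card_congr (Multiplicative.toAdd (α := ZMod 2)), Nat.card_zmod])
  exact ⟨e.toMonoidHom.comp (QuotientGroup.mk' M), fun h => hrM ((QuotientGroup.eq_one_iff r).mp
    (e.injective (h.trans (map_one e).symm)))⟩

/-- A central element with a nontrivial image in a homomorphism of a Sylow subgroup to an abelian group is
outside the derived subgroup. -/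
theorem false_of_hom [Group.IsPerfect K] (Q : Sylow 2 K) {r : K} (hr : r ∈ center K) (hr2 : r * r = 1)
    (hrQ : r ∈ (Q : Subgroup K)) (φ : ↥(Q : Subgroup K) →* Multiplicative (ZMod 2))
    (hφ : φ ⟨r, hrQ⟩ ≠ 1) : False := by
  haveI : Fact (Nat.Prime 2) := ⟨Nat.prime_two⟩
  have key : ∀ (k : ℕ) (g₀ : K), g₀⁻¹ * r ^ k * g₀ ∈ (Q : Subgroup K) → g₀⁻¹ * r ^ k * g₀ = r ^ k :=
    fun k g₀ _ => by
      rw [mul_assoc, ← mem_center_iff.mp (pow_mem hr k) g₀, inv_mul_cancel_left]
  have ht := MonoidHom.transfer_eq_pow φ r key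
  have hone : (MonoidHom.transfer φ) r = 1 :=
    MonoidHom.mem_ker.mp (Abelianization.commutator_subset_ker _
      (Group.IsPerfect.commutator_eq_top (G := K) ▸ mem_top r))
  obtain ⟨j, hj⟩ : Odd (Q : Subgroup K).index := Nat.not_even_iff_odd.mp fun he =>
    Q.not_dvd_index (even_iff_two_dvd.mp he)
  refine hφ ?_
  rw [hone] at ht
  have e : (⟨r ^ (Q : Subgroup K).index, MonoidHom.transfer_eq_pow_aux r key⟩ : ↥(Q : Subgroup K)) =
      ⟨r, hrQ⟩ := Subtype.ext (by
    show r ^ (Q : Subgroup K).index = r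
    rw [hj, pow_succ, pow_mul, pow_two, hr2, one_pow, one_mul])
  rw [← e]
  exact ht.symm

/-- No double cover of `Sz(8)` has the preimage of the involutions central in a Sylow 2-subgroup. -/
theorem no_double_cover [IsSimpleGroup X] (hX : CentralInter X) (hfacts : BenderFacts X)
    [Group.IsPerfect K] {π : K →* X} (hπ : Function.Surjective π) (hker : π.ker ≤ center K)
    (hcard : Nat.card π.ker = 2) (Q : Sylow 2 K)
    (h64 : Nat.card ↥((Q.mapSurjective hπ : Sylow 2 X) : Subgroup X) = 64)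
    (h448 : Nat.card ↥(normalizer (((Q.mapSurjective hπ : Sylow 2 X) : Subgroup X) : Set X)) = 448)
    (hna : ¬ IsMulCommutative ↥((Q.mapSurjective hπ : Sylow 2 X) : Subgroup X))
    (hcen : ∀ x ∈ (Q : Subgroup K), π x * π x = 1 → ∀ s ∈ (Q : Subgroup K), s * x = x * s) : False := by
  haveI : Fact (Nat.Prime 2) := ⟨Nat.prime_two⟩
  haveI : Fact (Nat.Prime 7) := ⟨by norm_num⟩
  set S : Sylow 2 X := Q.mapSurjective hπ with hSdef
  have hSmap : (S : Subgroup X) = (Q : Subgroup K).map π := Sylow.coe_mapSurjective hπ Q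
  have hkerQ : π.ker ≤ (Q : Subgroup K) := by
    refine mem_of_mem_normalizer Q (IsPGroup.of_card (n := 1) (by rw [hcard, pow_one])) fun z hz => ?_
    refine mem_normalizer_iff.mpr fun y => ?_
    rw [← mem_center_iff.mp (hker hz) y, mul_inv_cancel_right]
  obtain ⟨⟨r, hrker⟩, hr⟩ := exists_prime_orderOf_dvd_card' (G := π.ker) 2 (dvd_of_eq hcard.symm)
  rw [Subgroup.orderOf_mk] at hr
  have hr1 : r ≠ 1 := fun e => by rw [e, orderOf_one] at hr; exact absurd hr (by norm_num)
  have hr2 : r * r = 1 := by rw [← pow_two, ← hr, pow_orderOf_eq_one]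
  have hrQ : r ∈ (Q : Subgroup K) := hkerQ hrker
  have hkr : ∀ x ∈ π.ker, x = 1 ∨ x = r := by
    intro x hx
    have hz : zpowers r = π.ker := eq_of_le_of_card_ge (zpowers_le.mpr hrker)
      (by rw [hcard, Nat.card_zpowers, hr])
    rw [← hz] at hx
    obtain ⟨i, rfl⟩ := mem_zpowers_iff.mp hx
    rcases Int.even_or_odd i with ⟨j, rfl⟩ | ⟨j, rfl⟩
    · left; rw [← two_mul, zpow_mul, zpow_two, hr2, one_zpow]
    · right; rw [zpow_add, zpow_mul, zpow_two, hr2, one_zpow, one_mul, zpow_one]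
  have hXna : ¬ IsMulCommutative X := not_comm_of_sylow_ne hna
  -- the involutions of `S` are central
  set W := zInv (S : Subgroup X) with hW
  have hinv : ∀ u ∈ (S : Subgroup X), u * u = 1 → u ∈ W := by
    intro u hu hu2
    rcases eq_or_ne u 1 with rfl | hu1
    · exact one_mem _
    haveI : Nontrivial ↥(S : Subgroup X) := (nontrivial_iff_ne_bot _).mpr (sylow_ne_bot hna)
    haveI := S.isPGroup'.center_nontrivial
    obtain ⟨n, hn, hcc⟩ := (S.isPGroup'.to_subgroup (center ↥(S : Subgroup X))).nontrivial_iff_card.mp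
      inferInstance
    obtain ⟨z, hz⟩ := exists_prime_orderOf_dvd_card' (G := center ↥(S : Subgroup X)) 2
      (hcc ▸ dvd_pow_self 2 hn.ne')
    have hzX : orderOf ((z : ↥(S : Subgroup X)) : X) = 2 := by
      rw [Subgroup.orderOf_coe, Subgroup.orderOf_coe, hz]
    have hzW : ((z : ↥(S : Subgroup X)) : X) ∈ W :=
      ⟨(z : ↥(S : Subgroup X)).2, by
          have h := pow_orderOf_eq_one ((z : ↥(S : Subgroup X)) : X)
          rwa [hzX, pow_two] at h,
        fun s hs => congrArg Subtype.val (mem_center_iff.mp z.2 ⟨s, hs⟩)⟩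
    obtain ⟨m, hm, e⟩ := hfacts.conj S _ (z : ↥(S : Subgroup X)).2 u hu hzX
      (orderOf_eq_prime (by rw [pow_two, hu2]) hu1)
    exact e ▸ zInv_invariant S hm hzW
  -- an element of order 7 in the normaliser
  set N := normalizer ((S : Subgroup X) : Set X) with hN
  obtain ⟨⟨dX, hdN⟩, hdX⟩ := exists_prime_orderOf_dvd_card' (G := N) 7 (by rw [h448]; norm_num)
  rw [Subgroup.orderOf_mk] at hdX
  have hlift : ∀ k : K, π k ∈ N → k ∈ normalizer ((Q : Subgroup K) : Set K) := by
    intro k hk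
    have hpre : ∀ y : K, π y ∈ (S : Subgroup X) → y ∈ (Q : Subgroup K) := by
      intro y hy
      rw [hSmap] at hy
      obtain ⟨q, hq, e⟩ := hy
      rw [← mul_inv_cancel_left q y]
      exact mul_mem hq (hkerQ (MonoidHom.mem_ker.mpr (by rw [map_mul, map_inv, e, inv_mul_cancel])))
    have hmap : ∀ y ∈ (Q : Subgroup K), π y ∈ (S : Subgroup X) := fun y hy => hSmap ▸ mem_map_of_mem π hy
    refine mem_normalizer_iff.mpr fun y => ⟨fun hy => hpre _ ?_, fun hy => hpre _ ?_⟩
    · rw [map_mul, map_mul, map_inv]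
      exact (mem_normalizer_iff.mp hk _).mp (hmap y hy)
    · have := hmap _ hy
      rw [map_mul, map_mul, map_inv] at this
      exact (mem_normalizer_iff.mp hk _).mpr this
  obtain ⟨d₀, hd₀⟩ := hπ dX
  set d := d₀ ^ 8 with hd
  have hdπ : π d = dX := by
    rw [hd, map_pow, hd₀, show (8 : ℕ) = 7 + 1 from rfl, pow_succ, ← hdX, pow_orderOf_eq_one, one_mul]
  have hd7 : d ^ 7 = 1 := by
    have h1 : d₀ ^ 7 ∈ π.ker := MonoidHom.mem_ker.mpr (by rw [map_pow, hd₀, ← hdX, pow_orderOf_eq_one])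
    have h2 : (d₀ ^ 7) * (d₀ ^ 7) = 1 := by
      rcases hkr _ h1 with e | e <;> rw [e]
      · exact one_mul 1
      · exact hr2
    rw [hd, ← pow_mul, show 8 * 7 = (7 + 7) * 4 from rfl, pow_mul, pow_add, h2, one_pow]
  have hdQ : d ∈ normalizer ((Q : Subgroup K) : Set K) := hlift d (by rw [hdπ]; exact hdN)
  set A := zpowers d with hA
  have hAQ : A ≤ normalizer ((Q : Subgroup K) : Set K) := zpowers_le.mpr hdQ
  -- only the kernel is fixed
  have hfixX : ∀ u ∈ W, u * dX = dX * u → u = 1 := by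
    intro u hu hcomm
    by_contra hu1
    refine not_fixed hX hXna hu hu1 fun n hn => ?_
    set C := N ⊓ centralizer ({u} : Set X) with hC
    have h1 : (64 : ℕ) ∣ Nat.card C := h64 ▸ card_dvd_of_le (le_inf le_normalizer fun s hs =>
      mem_centralizer_singleton_iff.mpr (hu.2.2 s hs))
    have h2 : (7 : ℕ) ∣ Nat.card C := by
      rw [← hdX, ← Nat.card_zpowers]
      exact card_dvd_of_le (zpowers_le.mpr ⟨hdN, mem_centralizer_singleton_iff.mpr hcomm.symm⟩)
    have h3 : Nat.card N ≤ Nat.card C := by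
      rw [h448]
      exact Nat.le_of_dvd Nat.card_pos (Nat.Coprime.mul_dvd_of_dvd_of_dvd (by norm_num) h1 h2)
    have hCN : C = N := eq_of_le_of_card_ge inf_le_left h3
    exact mem_centralizer_singleton_iff.mp (hCN.ge hn).2
  have hfix : ∀ x ∈ (Q : Subgroup K), d * x = x * d → x ∈ π.ker := by
    intro x hx hcomm
    by_contra hxk
    have hne : π x ≠ 1 := hxk
    obtain ⟨j, hj⟩ := IsPGroup.iff_orderOf.mp S.isPGroup' ⟨π x, hSmap ▸ mem_map_of_mem π hx⟩
    rw [Subgroup.orderOf_mk] at hj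
    obtain ⟨j, rfl⟩ : ∃ j', j = j' + 1 :=
      Nat.exists_eq_succ_of_ne_zero fun e => hne (orderOf_eq_one_iff.mp (by rw [hj, e, pow_zero]))
    set u := π x ^ 2 ^ j with hu
    have hu2 : u * u = 1 := by rw [hu, ← pow_add, ← two_mul, ← pow_succ', ← hj, pow_orderOf_eq_one]
    have hu1 : u ≠ 1 := by
      intro e
      have := Nat.le_of_dvd (pow_pos two_pos j) (hj ▸ orderOf_dvd_of_pow_eq_one e)
      rw [pow_succ] at this
      have := Nat.one_le_two_pow (n := j)
      omega
    refine hu1 (hfixX u (hinv u (pow_mem (hSmap ▸ mem_map_of_mem π hx) _) hu2) ?_)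
    have hc : Commute (π x) dX := by
      rw [← hdπ]
      exact (show Commute d x from hcomm).symm.map π
    exact (hc.pow_left _).eq
  -- the preimage of the involutions
  set Z₁ := (Q : Subgroup K) ⊓ W.comap π with hZ₁
  have hZcen : ∀ x ∈ Z₁, ∀ s ∈ (Q : Subgroup K), s * x = x * s := fun x hx => hcen x hx.1 hx.2.2.1
  haveI : IsMulCommutative Z₁ := ⟨⟨fun a b => Subtype.ext (hZcen b b.2 a a.2.1)⟩⟩
  have hAZ : A ≤ normalizer (Z₁ : Set K) := by
    refine zpowers_le.mpr (mem_normalizer_iff.mpr fun y => ?_)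
    simp only [hZ₁, mem_inf, mem_comap, map_mul, map_inv, hdπ]
    refine and_congr (mem_normalizer_iff.mp hdQ y) ⟨fun h => zInv_invariant S hdN h, fun h => ?_⟩
    have := zInv_invariant S (inv_mem hdN) h
    rwa [show dX⁻¹ * (dX * π y * dX⁻¹) * dX⁻¹⁻¹ = π y by group] at this
  have hA7 : Nat.card A ∣ 7 := by
    rw [hA, Nat.card_zpowers]
    exact orderOf_dvd_of_pow_eq_one hd7
  have hcop : (Nat.card A).Coprime (Nat.card Z₁) := by
    obtain ⟨n, hn⟩ := IsPGroup.iff_card.mp (Q.isPGroup'.to_le (inf_le_left : Z₁ ≤ _))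
    rw [hn]
    exact Nat.Coprime.coprime_dvd_left hA7 (Nat.Coprime.pow_right n (by norm_num))
  obtain ⟨hd1, hd2⟩ := Coprime.abelian_decomposition hAZ hcop
  set W₀ := ⁅Z₁, A⁆ with hW₀
  have hW₀Z : W₀ ≤ Z₁ := by
    rw [← hd2]
    exact le_sup_right
  have hkZ : π.ker ≤ Z₁ ⊓ centralizer (A : Set K) := fun z hz =>
    ⟨⟨hkerQ hz, show π z ∈ W by rw [MonoidHom.mem_ker.mp hz]; exact one_mem _⟩,
      mem_centralizer_iff.mpr fun a _ => mem_center_iff.mp (hker hz) a⟩
  have hfixZ : Z₁ ⊓ centralizer (A : Set K) = π.ker :=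
    le_antisymm (fun z hz => hfix z hz.1.1 (mem_centralizer_iff.mp hz.2 d (mem_zpowers d))) hkZ
  rw [hfixZ] at hd1 hd2
  have hrW : r ∉ W₀ := fun h => hr1 (mem_bot.mp (hd1 ▸ mem_inf.mpr ⟨hrker, h⟩))
  have hW₀Q : W₀ ≤ (Q : Subgroup K) := hW₀Z.trans inf_le_left
  haveI hW₀n : (W₀.subgroupOf (Q : Subgroup K)).Normal := ⟨fun x hx g => by
    rw [mem_subgroupOf] at hx ⊢
    simp only [Subgroup.coe_mul, InvMemClass.coe_inv]
    rw [hZcen _ (hW₀Z hx) g g.2, mul_inv_cancel_right]
    exact hx⟩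
  let ρ := QuotientGroup.mk' (W₀.subgroupOf (Q : Subgroup K))
  have hρr : ρ ⟨r, hrQ⟩ ≠ 1 := fun e => hrW (mem_subgroupOf.mp ((QuotientGroup.eq_one_iff _).mp e))
  -- the group `S / W`
  haveI hWn : (W.subgroupOf (S : Subgroup X)).Normal := ⟨fun x hx g => by
    rw [mem_subgroupOf] at hx ⊢
    simp only [Subgroup.coe_mul, InvMemClass.coe_inv]
    exact zInv_invariant S (le_normalizer g.2) hx⟩
  let πQ : ↥(Q : Subgroup K) →* ↥(S : Subgroup X) :=
    (π.comp (Q : Subgroup K).subtype).codRestrict (S : Subgroup X) fun q => hSmap ▸ mem_map_of_mem π q.2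
  have hπQ : Function.Surjective πQ := by
    rintro ⟨y, hy⟩
    rw [hSmap] at hy
    obtain ⟨q, hq, rfl⟩ := hy
    exact ⟨⟨q, hq⟩, rfl⟩
  let V := ↥(S : Subgroup X) ⧸ W.subgroupOf (S : Subgroup X)
  let ψ : ↥(Q : Subgroup K) →* V := (QuotientGroup.mk' _).comp πQ
  have hψ : ∀ x : ↥(Q : Subgroup K), ψ x = 1 ↔ (x : K) ∈ Z₁ := fun x =>
    (QuotientGroup.eq_one_iff _).trans ⟨fun h => ⟨x.2, mem_subgroupOf.mp h⟩, fun h => mem_subgroupOf.mpr h.2⟩
  have hψs : Function.Surjective ψ := (QuotientGroup.mk'_surjective _).comp hπQ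
  -- `dX` acts without fixed points, so `|W| = 8`
  have horb : ∀ {T : Type u} [Finite T] [MulAction ↥(zpowers dX) T] (o : T),
      (∀ g : ↥(zpowers dX), g • o = o) →
      (∀ t : T, (∀ g : ↥(zpowers dX), g • t = t) → t = o) → Nat.card T ≡ 1 [MOD 7] := by
    intro T _ _ o ho huniq
    have hp : IsPGroup 7 ↥(zpowers dX) := IsPGroup.of_card (n := 1) (by rw [Nat.card_zpowers, hdX, pow_one])
    have h := hp.card_modEq_card_fixedPoints T
    have h1 : Nat.card ↥(MulAction.fixedPoints ↥(zpowers dX) T) = 1 := Nat.card_eq_one_iff_unique.mpr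
      ⟨⟨fun a b => Subtype.ext ((huniq a a.2).trans (huniq b b.2).symm)⟩, ⟨⟨o, ho⟩⟩⟩
    rwa [h1] at h
  have hdn : zpowers dX ≤ N := zpowers_le.mpr hdN
  have hWcard : Nat.card W = 8 := by
    letI : MulAction ↥(zpowers dX) ↥W :=
      { smul := fun g w => ⟨(g : X) * w * (g : X)⁻¹, zInv_invariant S (hdn g.2) w.2⟩
        one_smul := fun w => Subtype.ext (show (1 : X) * w * (1 : X)⁻¹ = w by group)
        mul_smul := fun g g' w => Subtype.ext (show ((g : X) * g') * w * ((g : X) * g')⁻¹ =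
          g * (g' * w * (g' : X)⁻¹) * (g : X)⁻¹ by group) }
    have hmod := horb (T := ↥W) 1 (fun g => Subtype.ext (show (g : X) * 1 * (g : X)⁻¹ = 1 by group))
      fun t ht => Subtype.ext (hfixX t t.2 (by
        have := congrArg Subtype.val (ht ⟨dX, mem_zpowers dX⟩)
        exact (mul_inv_eq_iff_eq_mul.mp this).symm))
    have hd : Nat.card W ∣ 2 ^ 6 := by
      have := card_dvd_of_le (zInv_le (S : Subgroup X))
      rwa [h64] at this
    obtain ⟨k, hk, e⟩ := (Nat.dvd_prime_pow Nat.prime_two).mp hd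
    rw [e] at hmod ⊢
    interval_cases k
    · exfalso
      haveI : Nontrivial ↥(S : Subgroup X) := (nontrivial_iff_ne_bot _).mpr (sylow_ne_bot hna)
      obtain ⟨n, hn, hcc⟩ := S.isPGroup'.nontrivial_iff_card.mp inferInstance
      obtain ⟨z, hz⟩ := exists_prime_orderOf_dvd_card' (G := ↥(S : Subgroup X)) 2 (hcc ▸ dvd_pow_self 2 hn.ne')
      have hzW : (z : X) ∈ W := hinv z z.2 (by
        have h := pow_orderOf_eq_one (z : X)
        rwa [Subgroup.orderOf_coe, hz, pow_two] at h)
      have hb : W = ⊥ := card_eq_one.mp (e.trans (pow_zero 2))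
      rw [hb, mem_bot] at hzW
      rw [← Subgroup.orderOf_coe, hzW, orderOf_one] at hz
      exact absurd hz (by norm_num)
    · exact absurd hmod (by decide)
    · exact absurd hmod (by decide)
    · norm_num
    · exact absurd hmod (by decide)
    · exact absurd hmod (by decide)
    · exfalso
      have hWS : W = (S : Subgroup X) := eq_of_le_of_card_ge (zInv_le _) (by rw [h64, e]; norm_num)
      exact hna ⟨⟨fun a b => Subtype.ext ((hWS.ge b.2).2.2 a a.2)⟩⟩
  have hVcard : Nat.card V = 8 := by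
    have h := (W.subgroupOf (S : Subgroup X)).card_eq_card_quotient_mul_card_subgroup
    rw [h64, Nat.card_congr (subgroupOfEquivOfLe (zInv_le (S : Subgroup X))).toEquiv, hWcard] at h
    change (64 : ℕ) = Nat.card V * 8 at h
    omega
  -- transitivity on the non-identity elements of `V`
  have hconj : ∀ x y : ↥(Q : Subgroup K), ψ x ≠ 1 → ψ y ≠ 1 →
      ∃ i : ℕ, ∃ z ∈ Z₁, (y : K) = d ^ i * x * (d ^ i)⁻¹ * z := by
    intro x y hx hy
    have hmem : ∀ i : ℕ, d ^ i * (x : K) * (d ^ i)⁻¹ ∈ (Q : Subgroup K) := fun i =>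
      (mem_normalizer_iff.mp (pow_mem hdQ i) _).mp x.2
    let o : Fin 7 → {v : V // v ≠ 1} := fun i => ⟨ψ ⟨_, hmem i⟩, fun e => hx ((hψ x).mpr (by
      have h := (hψ _).mp e
      exact (mem_normalizer_iff.mp (pow_mem (hAZ (mem_zpowers d)) _) _).mpr h))⟩
    have hinj : Function.Injective o := by
      intro i k hik
      by_contra hne
      have he : ψ ⟨_, hmem i⟩ = ψ ⟨_, hmem k⟩ := congrArg Subtype.val hik
      wlog hik' : (i : ℕ) < k generalizing i k
      · exact this hik.symm (Ne.symm hne) he.symm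
          (lt_of_le_of_ne (not_lt.mp hik') (fun h => hne (Fin.ext h.symm)))
      -- `d ^ m` fixes the coset of `x`
      set m := (k : ℕ) - i with hm
      have hk : (k : ℕ) = i + m := by omega
      have hz : (x : K)⁻¹ * (d ^ m * x * (d ^ m)⁻¹) ∈ Z₁ := by
        have h1 : ψ (⟨_, hmem i⟩⁻¹ * ⟨_, hmem k⟩) = 1 := by rw [map_mul, map_inv, he, inv_mul_cancel]
        have h2 := (hψ _).mp h1
        simp only [Subgroup.coe_mul, InvMemClass.coe_inv] at h2
        rw [hk, pow_add,
          show (d ^ (i : ℕ) * (x : K) * (d ^ (i : ℕ))⁻¹)⁻¹ * (d ^ (i : ℕ) * d ^ m * x * (d ^ (i : ℕ) * d ^ m)⁻¹) =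
            d ^ (i : ℕ) * ((x : K)⁻¹ * (d ^ m * x * (d ^ m)⁻¹)) * (d ^ (i : ℕ))⁻¹ by group] at h2
        exact (mem_normalizer_iff.mp (pow_mem (hAZ (mem_zpowers d)) _) _).mpr h2
      -- hence `d` does
      have hm7 : m < 7 := by omega
      have hm0 : 0 < m := by omega
      obtain ⟨c, hc⟩ : ∃ c, m * c % 7 = 1 := by
        interval_cases m
        exacts [⟨1, rfl⟩, ⟨4, rfl⟩, ⟨5, rfl⟩, ⟨2, rfl⟩, ⟨3, rfl⟩, ⟨6, rfl⟩]
      have hall : ∀ c : ℕ, (x : K)⁻¹ * ((d ^ m) ^ c * x * ((d ^ m) ^ c)⁻¹) ∈ Z₁ := by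
        intro c
        induction c with
        | zero => simp
        | succ c ihc =>
          have h3 := mul_mem hz ((mem_normalizer_iff.mp (pow_mem (hAZ (mem_zpowers d)) m) _).mp ihc)
          rw [show (x : K)⁻¹ * (d ^ m * x * (d ^ m)⁻¹) *
              (d ^ m * ((x : K)⁻¹ * ((d ^ m) ^ c * x * ((d ^ m) ^ c)⁻¹)) * (d ^ m)⁻¹) =
              (x : K)⁻¹ * ((d ^ m * (d ^ m) ^ c) * x * (d ^ m * (d ^ m) ^ c)⁻¹) by group, ← pow_succ'] at h3
          exact h3
      have hd' : (d ^ m) ^ c = d := by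
        rw [← pow_mul, ← Nat.div_add_mod (m * c) 7, hc, pow_add, pow_mul, hd7, one_pow, one_mul, pow_one]
      have hdx := hall c
      rw [hd'] at hdx
      -- lift to a fixed point
      letI : MulAction ↥(zpowers dX) ↥W :=
        { smul := fun g w => ⟨(g : X) * w * (g : X)⁻¹, zInv_invariant S (hdn g.2) w.2⟩
          one_smul := fun w => Subtype.ext (show (1 : X) * w * (1 : X)⁻¹ = w by group)
          mul_smul := fun g g' w => Subtype.ext (show ((g : X) * g') * w * ((g : X) * g')⁻¹ =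
            g * (g' * w * (g' : X)⁻¹) * (g : X)⁻¹ by group) }
      -- `z ↦ [d, z]` is onto `W₀`, so some `x z` is fixed modulo the kernel
      have hw : π ((x : K)⁻¹ * (d * x * d⁻¹)) ∈ W := hdx.2
      let g : ↥W → ↥W := fun w => ⟨(w : X)⁻¹ * (dX * w * dX⁻¹),
        mul_mem (inv_mem w.2) (zInv_invariant S hdN w.2)⟩
      have hg : Function.Injective g := by
        intro a b hab
        have h1 : (a : X)⁻¹ * (dX * a * dX⁻¹) = (b : X)⁻¹ * (dX * b * dX⁻¹) := congrArg Subtype.val hab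
        have h2 : (a : X) * (b : X)⁻¹ = 1 := by
          refine hfixX _ (mul_mem a.2 (inv_mem b.2)) ?_
          have hba : dX * ((a : X) * (b : X)⁻¹) * dX⁻¹ = a * (b : X)⁻¹ := by
            calc dX * ((a : X) * (b : X)⁻¹) * dX⁻¹
                = a * ((a : X)⁻¹ * (dX * a * dX⁻¹)) * (dX * b * dX⁻¹)⁻¹ := by group
              _ = a * ((b : X)⁻¹ * (dX * b * dX⁻¹)) * (dX * b * dX⁻¹)⁻¹ := by rw [h1]
              _ = a * (b : X)⁻¹ := by group
          exact (mul_inv_eq_iff_eq_mul.mp hba).symm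
        exact Subtype.ext (mul_inv_eq_one.mp h2)
      obtain ⟨w, hgw⟩ := Finite.injective_iff_surjective.mp hg ⟨_, hw⟩
      have hgw' : (w : X)⁻¹ * (dX * w * dX⁻¹) = π ((x : K)⁻¹ * (d * x * d⁻¹)) := congrArg Subtype.val hgw
      obtain ⟨q, hqe⟩ := hπQ ⟨w, w.2.1⟩
      have hq : π (q : K) = w := congrArg Subtype.val hqe
      have hwinv : (w : X)⁻¹ = w := inv_eq_of_mul_eq_one_right w.2.2.1
      have hwc : ∀ s ∈ (S : Subgroup X), s * (w : X) = w * s := w.2.2.2
      have hπd : π ((x : K) * q) * dX = dX * π ((x : K) * q) := by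
        have hxS : π (x : K) ∈ (S : Subgroup X) := (πQ x).2
        rw [map_mul, map_mul, map_mul, map_inv, map_inv, hdπ] at hgw'
        rw [map_mul, hq]
        have h1 : dX * (w : X) * dX⁻¹ ∈ W := zInv_invariant S hdN w.2
        have h2 : dX * π (x : K) * dX⁻¹ = π x * (w * (dX * w * dX⁻¹)) := by
          calc dX * π (x : K) * dX⁻¹ = π x * ((π x)⁻¹ * (dX * π x * dX⁻¹)) := by group
            _ = π x * ((w : X)⁻¹ * (dX * w * dX⁻¹)) := by rw [hgw']
            _ = π x * (w * (dX * w * dX⁻¹)) := by rw [hwinv]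
        have h3 : dX * (π (x : K) * w) * dX⁻¹ = π x * w := by
          calc dX * (π (x : K) * w) * dX⁻¹ = dX * π x * dX⁻¹ * (dX * w * dX⁻¹) := by group
            _ = π x * (w * (dX * w * dX⁻¹)) * (dX * w * dX⁻¹) := by rw [h2]
            _ = π x * w * ((dX * w * dX⁻¹) * (dX * w * dX⁻¹)) := by group
            _ = π x * w := by rw [h1.2.1, mul_one]
        exact (mul_inv_eq_iff_eq_mul.mp h3).symm
      have hone : π ((x : K) * q) = 1 := by
        have hxq : (x : K) * q ∈ (Q : Subgroup K) := mul_mem x.2 q.2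
        have hk : d * ((x : K) * q) * d⁻¹ * ((x : K) * q)⁻¹ ∈ π.ker := MonoidHom.mem_ker.mpr (by
          rw [map_mul, map_mul, map_mul π d, map_inv, map_inv, hdπ, ← hπd, mul_inv_cancel_right, mul_inv_cancel])
        rcases hkr _ hk with e | e
        · exact hfix _ hxq (by rwa [mul_inv_eq_one, mul_inv_eq_iff_eq_mul] at e)
        · -- `d` would move `x q` by the involution `r`, but `d` has order 7
          exfalso
          have hs : ∀ n : ℕ, d ^ n * ((x : K) * q) * (d ^ n)⁻¹ = r ^ n * ((x : K) * q) := by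
            intro n
            induction n with
            | zero => simp
            | succ n ihn =>
              have hrc : ∀ y : K, y * r = r * y := fun y => mem_center_iff.mp (hker hrker) y
              calc d ^ (n + 1) * ((x : K) * q) * (d ^ (n + 1))⁻¹
                  = d * (d ^ n * ((x : K) * q) * (d ^ n)⁻¹) * d⁻¹ := by rw [pow_succ']; group
                _ = d * (r ^ n * ((x : K) * q)) * d⁻¹ := by rw [ihn]
                _ = r ^ n * (d * ((x : K) * q) * d⁻¹) := by
                    rw [← mul_assoc d, (show Commute d (r ^ n) from (show Commute d r from hrc d).pow_right n).eq]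
                    group
                _ = r ^ n * (r * ((x : K) * q)) := by rw [mul_inv_eq_iff_eq_mul.mp e]
                _ = r ^ (n + 1) * ((x : K) * q) := by rw [pow_succ, mul_assoc]
          have h7 := hs 7
          rw [hd7, one_mul, inv_one, mul_one] at h7
          have : r ^ 7 = 1 := mul_eq_right.mp h7.symm
          rw [show r ^ 7 = (r * r) * (r * r) * (r * r) * r by simp only [pow_succ, pow_zero, one_mul, mul_assoc], hr2, one_mul, one_mul, one_mul] at this
          exact hr1 this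
      refine hx ((hψ x).mpr ⟨x.2, ?_⟩)
      rw [map_mul, hq, mul_eq_one_iff_eq_inv, hwinv] at hone
      show π (x : K) ∈ W
      rw [hone]
      exact w.2
    have hsurj : Function.Surjective o := by
      haveI : Finite {v : V // v ≠ 1} := inferInstance
      refine (Function.Injective.bijective_of_nat_card_le hinj ?_).2
      classical
      haveI := Fintype.ofFinite V
      rw [Nat.card_eq_fintype_card (α := Fin 7), Fintype.card_fin, Nat.card_eq_fintype_card,
        Fintype.card_subtype_compl, Fintype.card_subtype_eq, ← Nat.card_eq_fintype_card, hVcard]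
    obtain ⟨i, hi⟩ := hsurj ⟨ψ y, hy⟩
    refine ⟨i, (d ^ (i : ℕ) * (x : K) * (d ^ (i : ℕ))⁻¹)⁻¹ * y, ?_, by group⟩
    have h1 : ψ (⟨_, hmem i⟩⁻¹ * y) = 1 := by
      rw [map_mul, map_inv, show ψ ⟨_, hmem i⟩ = ψ y from congrArg Subtype.val hi, inv_mul_cancel]
    exact (hψ _).mp h1
  -- squares land in `Z₁`
  have hsq : ∀ y : ↥(Q : Subgroup K), (y : K) * y ∈ Z₁ := by
    intro y
    by_cases hy : ψ y = 1
    · exact mul_mem ((hψ y).mp hy) ((hψ y).mp hy)
    obtain ⟨v, hv⟩ := exists_prime_orderOf_dvd_card' (G := V) 2 (by rw [hVcard]; norm_num)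
    obtain ⟨x, hx⟩ := hψs v
    have hx1 : ψ x ≠ 1 := fun e => by rw [← hx, e, orderOf_one] at hv; exact absurd hv (by norm_num)
    have hxx : (x : K) * x ∈ Z₁ := by
      have : ψ (x * x) = 1 := by
        rw [map_mul, hx]
        have h := pow_orderOf_eq_one v
        rwa [hv, pow_two] at h
      exact (hψ _).mp this
    obtain ⟨i, z, hz, e⟩ := hconj x y hx1 hy
    have hzc := hZcen z hz _ ((mem_normalizer_iff.mp (pow_mem hdQ i) _).mp x.2)
    rw [e, show d ^ i * (x : K) * (d ^ i)⁻¹ * z * (d ^ i * (x : K) * (d ^ i)⁻¹ * z) =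
      d ^ i * (x : K) * (d ^ i)⁻¹ * (z * (d ^ i * (x : K) * (d ^ i)⁻¹)) * z by group, ← hzc,
      show d ^ i * (x : K) * (d ^ i)⁻¹ * (d ^ i * (x : K) * (d ^ i)⁻¹ * z) * z =
      d ^ i * ((x : K) * x) * (d ^ i)⁻¹ * (z * z) by group]
    exact mul_mem ((mem_normalizer_iff.mp (pow_mem (hAZ (mem_zpowers d)) i) _).mp hxx) (mul_mem hz hz)
  -- every element of `Z₁` squares into `W₀`
  have hZsq : ∀ z ∈ Z₁, z * z ∈ W₀ := by
    intro z hz
    rw [← hd2] at hz
    haveI : (W₀.subgroupOf Z₁).Normal := Subgroup.normal_of_comm _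
    obtain ⟨k, hk, w, hw, rfl⟩ : ∃ k ∈ π.ker, ∃ w ∈ W₀, k * w = z := by
      haveI : π.ker.Normal := inferInstance
      exact mem_sup_of_normal_left.mp hz
    have hc : w * k = k * w := mem_center_iff.mp (hker hk) w
    have hkk : k * k = 1 := by
      rcases hkr k hk with e | e <;> rw [e]
      · exact one_mul 1
      · exact hr2
    rw [show k * w * (k * w) = k * (w * k) * w by group, hc, show k * (k * w) * w = k * k * (w * w) by group,
      hkk, one_mul]
    exact mul_mem hw hw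
  by_cases hex : ∀ y : ↥(Q : Subgroup K), ρ y * ρ y = 1
  · obtain ⟨φ, hφ⟩ := exists_hom_two (Γ := ↥(Q : Subgroup K) ⧸ W₀.subgroupOf (Q : Subgroup K))
      (fun a => by
        obtain ⟨y, rfl⟩ := QuotientGroup.mk'_surjective _ a
        exact hex y) hρr
    exact false_of_hom Q (hker hrker) hr2 hrQ (φ.comp ρ) hφ
  · push Not at hex
    obtain ⟨y₀, hy₀⟩ := hex
    have hρW : ∀ y : ↥(Q : Subgroup K), (y : K) ∈ W₀ → ρ y = 1 := fun y hy =>
      (QuotientGroup.eq_one_iff y).mpr (mem_subgroupOf.mpr hy)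
    have hWd : ∀ i : ℕ, ∀ w ∈ W₀, d ^ i * w * (d ^ i)⁻¹ ∈ W₀ := by
      intro i w hw
      have hn : d ^ i ∈ normalizer (W₀ : Set K) := by
        have hA : d ^ i ∈ A := pow_mem (mem_zpowers d) i
        rw [mem_normalizer_iff_map_conj_eq, hW₀, map_commutator]
        exact congrArg₂ (fun H₁ H₂ : Subgroup K => ⁅H₁, H₂⁆)
          (mem_normalizer_iff_map_conj_eq.mp (hAZ hA)) (mem_normalizer_iff_map_conj_eq.mp (le_normalizer hA))
      exact (mem_normalizer_iff.mp hn w).mp hw
    have hsqr : ∀ y : ↥(Q : Subgroup K), ψ y ≠ 1 → ρ y * ρ y = ρ ⟨r, hrQ⟩ := by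
      intro y hy
      have hy₀1 : ψ y₀ ≠ 1 := fun e => hy₀ (by
        rw [← map_mul]; exact hρW _ (hZsq _ ((hψ y₀).mp e)))
      have hyW : (y : K) * y ∉ W₀ := by
        intro hyW
        obtain ⟨i, z, hz, e⟩ := hconj y y₀ hy hy₀1
        refine hy₀ ((map_mul ρ y₀ y₀).symm.trans (hρW (y₀ * y₀) ?_))
        show (y₀ : K) * y₀ ∈ W₀
        rw [e]
        have hzc := hZcen z hz _ ((mem_normalizer_iff.mp (pow_mem hdQ i) _).mp y.2)
        rw [show d ^ i * (y : K) * (d ^ i)⁻¹ * z * (d ^ i * (y : K) * (d ^ i)⁻¹ * z) =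
          d ^ i * (y : K) * (d ^ i)⁻¹ * (z * (d ^ i * (y : K) * (d ^ i)⁻¹)) * z by group, ← hzc,
          show d ^ i * (y : K) * (d ^ i)⁻¹ * (d ^ i * (y : K) * (d ^ i)⁻¹ * z) * z =
          d ^ i * ((y : K) * y) * (d ^ i)⁻¹ * (z * z) by group]
        exact mul_mem (hWd i _ hyW) (hZsq z hz)
      have hmem := hsq y
      rw [← hd2] at hmem
      obtain ⟨k, hk, w, hw, e⟩ := mem_sup_of_normal_left.mp hmem
      rcases hkr k hk with rfl | rfl
      · exact absurd (by rw [← e, one_mul]; exact hw) hyW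
      · rw [← map_mul, show y * y = ⟨k, hrQ⟩ * ⟨w, hW₀Q hw⟩ from Subtype.ext e.symm, map_mul,
          hρW ⟨w, hW₀Q hw⟩ hw, mul_one]
    set R := ρ ⟨r, hrQ⟩ with hR
    have hRc : ∀ g, g * R = R * g := by
      intro g
      obtain ⟨y, rfl⟩ := QuotientGroup.mk'_surjective _ g
      exact congrArg ρ (Subtype.ext (mem_center_iff.mp (hker hrker) (y : K)) :
        y * ⟨r, hrQ⟩ = ⟨r, hrQ⟩ * y)
    have hRR : R * R = 1 := by
      rw [hR, ← map_mul, show (⟨r, hrQ⟩ : ↥(Q : Subgroup K)) * ⟨r, hrQ⟩ = 1 from Subtype.ext hr2, map_one]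
    have hanti : ∀ a b : ↥(Q : Subgroup K), ψ a ≠ 1 → ψ b ≠ 1 → ψ (a * b) ≠ 1 → ρ b * ρ a = R * (ρ a * ρ b) := by
      intro a b ha hb hab
      have h1 := hsqr a ha
      have h2 := hsqr b hb
      have h3 := hsqr _ hab
      rw [map_mul] at h3
      have hainv : (ρ a)⁻¹ = ρ a * R := inv_eq_of_mul_eq_one_right (by rw [← mul_assoc, h1, hRR])
      have hbinv : (ρ b)⁻¹ = ρ b * R := inv_eq_of_mul_eq_one_right (by rw [← mul_assoc, h2, hRR])
      calc ρ b * ρ a = (ρ a)⁻¹ * (ρ a * ρ b * (ρ a * ρ b)) * (ρ b)⁻¹ := by group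
        _ = (ρ a)⁻¹ * R * (ρ b)⁻¹ := by rw [h3]
        _ = ρ a * (R * R) * (ρ b * R) := by rw [hainv, hbinv]; group
        _ = ρ a * ρ b * R := by rw [hRR, mul_one, mul_assoc]
        _ = R * (ρ a * ρ b) := hRc _
    classical
    haveI := Fintype.ofFinite V
    have hpick : ∀ F : Finset V, F.card ≤ 4 → ∃ y : ↥(Q : Subgroup K), ψ y ∉ F := by
      intro F hF
      obtain ⟨v, hv⟩ : ∃ v, v ∉ F := by
        by_contra h
        push Not at h
        have : F = Finset.univ := Finset.eq_univ_iff_forall.mpr h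
        rw [this, Finset.card_univ, ← Nat.card_eq_fintype_card, hVcard] at hF
        omega
      obtain ⟨y, rfl⟩ := hψs v
      exact ⟨y, hv⟩
    obtain ⟨a, ha⟩ := hpick {1} (by simp)
    simp only [Finset.mem_singleton] at ha
    obtain ⟨b, hb⟩ := hpick {1, (ψ a)⁻¹} (Finset.card_le_two.trans (by norm_num))
    simp only [Finset.mem_insert, Finset.mem_singleton, not_or] at hb
    obtain ⟨c, hc⟩ := hpick {1, (ψ a)⁻¹, (ψ b)⁻¹, (ψ b)⁻¹ * (ψ a)⁻¹} Finset.card_le_four
    simp only [Finset.mem_insert, Finset.mem_singleton, not_or] at hc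
    obtain ⟨hc1, hc2, hc3, hc4⟩ := hc
    have k1 := hanti a b ha hb.1 (by rw [map_mul]; exact fun e => hb.2 (eq_inv_of_mul_eq_one_right e))
    have k2 := hanti a c ha hc1 (by rw [map_mul]; exact fun e => hc2 (eq_inv_of_mul_eq_one_right e))
    have k3 := hanti a (b * c) ha (by rw [map_mul]; exact fun e => hc3 (eq_inv_of_mul_eq_one_right e))
      (by
        rw [map_mul, map_mul]
        intro e
        refine hc4 (eq_inv_mul_iff_mul_eq.mpr ?_)
        exact eq_inv_of_mul_eq_one_right e)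
    rw [map_mul] at k3
    refine hρr ?_
    have h4 : ρ b * ρ c * ρ a = ρ a * (ρ b * ρ c) := by
      calc ρ b * ρ c * ρ a = ρ b * (ρ c * ρ a) := mul_assoc _ _ _
        _ = ρ b * (R * (ρ a * ρ c)) := by rw [k2]
        _ = R * (ρ b * ρ a) * ρ c := by rw [← mul_assoc (ρ b), hRc]; group
        _ = R * (R * (ρ a * ρ b)) * ρ c := by rw [k1]
        _ = R * R * (ρ a * (ρ b * ρ c)) := by group
        _ = ρ a * (ρ b * ρ c) := by rw [hRR, one_mul]
    rw [h4] at k3
    exact mul_eq_right.mp k3.symm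

/-- The centre of the component is trivial. -/
theorem center_eq_bot [Group.IsPerfect K] [IsSimpleGroup (K ⧸ center K)] (hCI : CentralInter K)
    (hfacts : BenderFacts (K ⧸ center K)) (h2 : IsPGroup 2 (center K)) (Q : Sylow 2 K)
    (hna : ¬ IsMulCommutative ↥((Q.mapSurjective (QuotientGroup.mk'_surjective (center K)) : Sylow 2 (K ⧸ center K)) :
      Subgroup (K ⧸ center K)))
    {q : K} (hqQ : q ∈ (Q : Subgroup K)) (hqc : q ∉ center K) (hq2 : q * q ∈ center K)
    (hqs : ∀ s ∈ (Q : Subgroup K), s * q = q * s) : center K = ⊥ := by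
  haveI : Fact (Nat.Prime 2) := ⟨Nat.prime_two⟩
  set π := QuotientGroup.mk' (center K) with hπdef
  have hπ : Function.Surjective π := QuotientGroup.mk'_surjective _
  have hker : π.ker = center K := QuotientGroup.ker_mk' _
  have hstem : Cfsg.IsStemExtension π :=
    ⟨hπ, hker.le, fun x _ => by rw [Group.IsPerfect.commutator_eq_top (G := K)]; exact mem_top x⟩
  have hone : ∀ {H : Type} [Group H] (_ : Cfsg.HasCyclicSchurMultiplier H 1),
      ∀ (_ : (K ⧸ center K) ≃* H), center K = ⊥ := by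
    intro H _ hH e
    have hs : Cfsg.IsStemExtension (e.toMonoidHom.comp π) := by
      refine ⟨e.surjective.comp hπ, ?_, ?_⟩ <;>
      · rw [← MonoidHom.comap_ker, (MonoidHom.ker_eq_bot_iff e.toMonoidHom).mpr e.injective, MonoidHom.comap_bot]
        first | exact hstem.2.1 | exact hstem.2.2
    have := H74.Schur.ker_eq_bot_of_trivial hH hs
    rw [← MonoidHom.comap_ker, (MonoidHom.ker_eq_bot_iff e.toMonoidHom).mpr e.injective, MonoidHom.comap_bot, hker] at this
    exact this
  rcases hfacts.list with hSz | ⟨F, _, _, q₀, hF, hev, h4, ⟨e⟩⟩ | ⟨F, _, _, hc2, h8, ⟨e⟩⟩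
  · by_cases hbig : ∀ (F : Type) [Field F] [Fintype F] (m : ℕ), 2 ≤ m → Fintype.card F = 2 ^ (2 * m + 1) →
        IsEmpty ((K ⧸ center K) ≃* ↥(Cfsg.Lie.Sz F (2 ^ (m + 1))))
    · by_contra hne
      -- a double cover of `Sz(8)`
      haveI : Nontrivial (center K) := (nontrivial_iff_ne_bot _).mpr hne
      obtain ⟨n, hn, hcn⟩ := h2.nontrivial_iff_card.mp inferInstance
      obtain ⟨R₁, hR₁⟩ : ∃ R₁ : Subgroup (center K), R₁.index = 2 := by
        obtain ⟨R₁, hR₁⟩ := Sylow.exists_subgroup_card_pow_prime (G := center K) 2 (n := n - 1)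
          (hcn ▸ pow_dvd_pow 2 (Nat.sub_le n 1))
        refine ⟨R₁, Nat.eq_of_mul_eq_mul_left (pow_pos two_pos (n - 1)) ?_⟩
        rw [← hR₁, R₁.card_mul_index, hcn, hR₁, ← pow_succ, Nat.sub_add_cancel hn]
      set M : Subgroup K := R₁.map (center K).subtype with hM
      have hMc : M ≤ center K := map_subtype_le _
      haveI : M.Normal := ⟨fun x hx g => by
        rwa [mem_center_iff.mp (hMc hx) g, mul_inv_cancel_right]⟩
      let π₁ : K ⧸ M →* K ⧸ center K := QuotientGroup.map M (center K) (MonoidHom.id K)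
        (by rw [comap_id]; exact hMc)
      have hπ₁ : Function.Surjective π₁ := by
        intro y
        obtain ⟨y, rfl⟩ := hπ y
        exact ⟨QuotientGroup.mk' M y, rfl⟩
      have hker₁ : π₁.ker ≤ center (K ⧸ M) := by
        intro y hy
        obtain ⟨y, rfl⟩ := QuotientGroup.mk'_surjective M y
        have hyc : y ∈ center K := (QuotientGroup.eq_one_iff y).mp (MonoidHom.mem_ker.mp hy)
        refine mem_center_iff.mpr fun g => ?_
        obtain ⟨g, rfl⟩ := QuotientGroup.mk'_surjective M g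
        rw [← map_mul, ← map_mul, mem_center_iff.mp hyc g]
      haveI : Group.IsPerfect (K ⧸ M) :=
        ⟨by rw [_root_.commutator_def,
          ← Subgroup.map_top_of_surjective (QuotientGroup.mk' M) (QuotientGroup.mk'_surjective M),
          ← map_commutator, ← _root_.commutator_def, Group.IsPerfect.commutator_eq_top (G := K)]⟩
      have hcard₁ : Nat.card π₁.ker = 2 := by
        have h1 := (MonoidHom.ker π₁).card_mul_index
        rw [Subgroup.index_ker, MonoidHom.range_eq_top.mpr hπ₁, Subgroup.card_top] at h1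
        have h2' := M.card_eq_card_quotient_mul_card_subgroup
        have h3 := (center K).card_eq_card_quotient_mul_card_subgroup
        have h4' : Nat.card M * 2 = Nat.card (center K) := by
          rw [hM, card_map_of_injective (center K).subtype_injective, ← hR₁, R₁.card_mul_index]
        have hp1 : 0 < Nat.card M := Nat.card_pos
        have hp2 : 0 < Nat.card (K ⧸ center K) := Nat.card_pos
        refine Nat.eq_of_mul_eq_mul_right (Nat.mul_pos hp2 hp1) ?_
        calc Nat.card π₁.ker * (Nat.card (K ⧸ center K) * Nat.card M)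
            = Nat.card (K ⧸ M) * Nat.card M := by rw [← h1]; ring
          _ = Nat.card (K ⧸ center K) * Nat.card (center K) := by rw [← h2', ← h3]
          _ = 2 * (Nat.card (K ⧸ center K) * Nat.card M) := by rw [← h4']; ring
      set Q₁ := Q.mapSurjective (QuotientGroup.mk'_surjective M) with hQ₁
      have hQQ : Q₁.mapSurjective hπ₁ = Q.mapSurjective hπ := by
        refine Sylow.ext ?_
        rw [Sylow.coe_mapSurjective, hQ₁, Sylow.coe_mapSurjective, Sylow.coe_mapSurjective, map_map]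
        exact congrArg (fun φ : K →* K ⧸ center K => (Q : Subgroup K).map φ) (MonoidHom.ext fun _ => rfl)
      obtain ⟨h64, h448⟩ := BenderFacts.card_normalizer_eight hSz hbig (Q.mapSurjective hπ)
      refine no_double_cover (hCI.of_surjective hπ) hfacts hπ₁ hker₁ hcard₁ Q₁
        (by rw [hQQ]; exact h64) (by rw [hQQ]; exact h448) (by rw [hQQ]; exact hna) ?_
      intro x hx hx2 s hs
      rw [hQ₁, Sylow.coe_mapSurjective] at hx hs
      obtain ⟨x, hxQ, rfl⟩ := hx
      obtain ⟨s, hsQ, rfl⟩ := hs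
      rw [← map_mul, ← map_mul]
      refine congrArg (QuotientGroup.mk' M) ?_
      by_cases hxc : x ∈ center K
      · exact mem_center_iff.mp hxc s
      have hq' : orderOf (π q) = 2 := orderOf_eq_prime
        (by rw [pow_two, ← map_mul]; exact (QuotientGroup.eq_one_iff _).mpr hq2)
        fun e => hqc ((QuotientGroup.eq_one_iff q).mp e)
      have hx' : orderOf (π x) = 2 := orderOf_eq_prime (by rw [pow_two]; exact hx2)
        fun e => hxc ((QuotientGroup.eq_one_iff x).mp e)
      have hmapQ : ∀ y ∈ (Q : Subgroup K), π y ∈ ((Q.mapSurjective hπ : Sylow 2 (K ⧸ center K)) : Subgroup _) :=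
        fun y hy => by rw [Sylow.coe_mapSurjective]; exact mem_map_of_mem π hy
      obtain ⟨n', hn', he⟩ := hfacts.conj (Q.mapSurjective hπ) (π q) (hmapQ q hqQ) (π x) (hmapQ x hxQ) hq' hx'
      obtain ⟨k, rfl⟩ := hπ n'
      have hcQ : center K ≤ (Q : Subgroup K) := mem_of_mem_normalizer Q h2
        (fun z hz => mem_normalizer_iff.mpr fun y => by
          rw [← mem_center_iff.mp hz y, mul_inv_cancel_right])
      have hkN : ∀ y ∈ (Q : Subgroup K), k⁻¹ * y * k ∈ (Q : Subgroup K) := by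
        intro y hy
        have h5 := (mem_normalizer_iff''.mp hn' _).mp (hmapQ y hy)
        rw [Sylow.coe_mapSurjective, ← map_inv, ← map_mul, ← map_mul] at h5
        obtain ⟨y', hy', e'⟩ := h5
        rw [← mul_inv_cancel_left y' (k⁻¹ * y * k)]
        exact mul_mem hy' (hcQ ((QuotientGroup.eq_one_iff _).mp (by
          show π (y'⁻¹ * (k⁻¹ * y * k)) = 1
          rw [map_mul, map_inv, e', inv_mul_cancel])))
      have hz : (k * q * k⁻¹)⁻¹ * x ∈ center K := (QuotientGroup.eq_one_iff _).mp (by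
        show π ((k * q * k⁻¹)⁻¹ * x) = 1
        rw [map_mul, map_inv, map_mul, map_mul, map_inv, he, inv_mul_cancel])
      have h6 := hqs _ (hkN s hsQ)
      calc s * x = k * ((k⁻¹ * s * k) * q) * k⁻¹ * ((k * q * k⁻¹)⁻¹ * x) := by group
        _ = k * (q * (k⁻¹ * s * k)) * k⁻¹ * ((k * q * k⁻¹)⁻¹ * x) := by rw [h6]
        _ = k * q * k⁻¹ * (s * ((k * q * k⁻¹)⁻¹ * x)) := by group
        _ = k * q * k⁻¹ * (((k * q * k⁻¹)⁻¹ * x) * s) := by rw [mem_center_iff.mp hz s]
        _ = x * s := by group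
    · push Not at hbig
      obtain ⟨F, _, _, m, hm, hF, hne⟩ := hbig
      obtain ⟨e⟩ := not_isEmpty_iff.mp (not_isEmpty_iff.mpr hne)
      exact hone (S2111.result hm hF) e
  · -- `PSU₃`: the multiplier has odd order
    have hM := S2089.result (F := F) 3 q₀ hF le_rfl (fun h => by omega)
      (by simp)
    have hs : Cfsg.IsStemExtension (e.toMonoidHom.comp π) := by
      refine ⟨e.surjective.comp hπ, ?_, ?_⟩ <;>
      · rw [← MonoidHom.comap_ker, (MonoidHom.ker_eq_bot_iff e.toMonoidHom).mpr e.injective, MonoidHom.comap_bot]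
        first | exact hstem.2.1 | exact hstem.2.2
    obtain ⟨f, hf⟩ := H74.Schur.exists_surjective_ker hM hs
    have hk : (e.toMonoidHom.comp π).ker = center K := by
      rw [← MonoidHom.comap_ker, (MonoidHom.ker_eq_bot_iff e.toMonoidHom).mpr e.injective, MonoidHom.comap_bot, hker]
    haveI : NeZero (Nat.gcd 3 (q₀ + 1)) := ⟨(Nat.gcd_pos_of_pos_left _ (by norm_num)).ne'⟩
    have hd := Subgroup.card_dvd_of_surjective f hf
    rw [Nat.card_congr (Multiplicative.toAdd (α := ZMod (Nat.gcd 3 (q₀ + 1)))), Nat.card_zmod] at hd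
    obtain ⟨n, hn⟩ := IsPGroup.iff_card.mp h2
    rw [hk, hn] at hd
    have h3 : 2 ^ n ∣ 3 := hd.trans (Nat.gcd_dvd_left 3 _)
    rcases n with _ | n
    · exact card_eq_one.mp (hn.trans (pow_zero 2))
    · exact absurd (dvd_trans (dvd_pow_self 2 n.succ_ne_zero) h3) (by norm_num)
  · obtain ⟨k, -, hk⟩ := FiniteField.card F 2
    have hg : Nat.gcd 2 (Fintype.card F - 1) = 1 := by
      refine (Nat.prime_two.coprime_iff_not_dvd).mpr ?_
      have : 2 ∣ Fintype.card F := hk ▸ dvd_pow_self 2 k.ne_zero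
      omega
    have hM := S2086.result (F := F) rfl 2 le_rfl (fun _ => by omega) (by
      simp only [Set.mem_insert_iff, Set.mem_singleton_iff, Prod.mk.injEq, true_and]
      intro h
      have h2' : 2 ∣ Fintype.card F := hk ▸ dvd_pow_self 2 k.ne_zero
      rcases h with h | h | ⟨h, -⟩ | ⟨h, -⟩ | ⟨h, -⟩ <;> omega)
    rw [hg] at hM
    exact hone hM e

end Cfsg.Agent.H91.CI
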