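import Cfsg.Agent.H91.CI.GlobalBasic

/-!
# Simple groups with central Sylow 2-intersections and non-abelian Sylow 2-subgroups

Such a group has a strongly embedded subgroup, given the criterion for strongly closed subgroups and the
transitivity for simple groups with abelian Sylow 2-subgroups.
-/

set_option autoImplicit false
set_option linter.style.haveILetI false
set_option linter.unusedSectionVars false

namespace Cfsg.Agent.H91.CI

open Subgroup Cfsg.Agent
open scoped Pointwise commutatorElement IsMulCommutative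

universe u

local instance fact_two_global : Fact (Nat.Prime 2) := ⟨Nat.prime_two⟩

/-- A strongly closed subgroup whose involution centralisers generate a proper subgroup gives a strongly
embedded subgroup. -/
def EmbCriterion : Prop :=
  ∀ (X : Type u) [Group X] [Finite X], IsSimpleGroup X → ∀ (S : Sylow 2 X) (T : Subgroup X), T ≠ ⊥ →
    Cfsg.IsStronglyClosed T (S : Subgroup X) →
    (⨆ t : {t : X // t ∈ T ∧ orderOf t = 2}, centralizer ({(t : X)} : Set X)) ≠ ⊤ →
      ∃ H : Subgroup X, Cfsg.IsStronglyEmbedded H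

variable {G : Type u} [Group G] [Finite G]

theorem zInv_ne_bot {S : Sylow 2 G} (hS : ¬ IsMulCommutative ↥(S : Subgroup G)) :
    zInv (S : Subgroup G) ≠ ⊥ := by
  haveI : Nontrivial ↥(S : Subgroup G) := (nontrivial_iff_ne_bot _).mpr (sylow_ne_bot hS)
  haveI := S.isPGroup'.center_nontrivial
  obtain ⟨m, hm, hcm⟩ := (S.isPGroup'.to_subgroup (center ↥(S : Subgroup G))).nontrivial_iff_card.mp inferInstance
  obtain ⟨z, hz⟩ := exists_prime_orderOf_dvd_card' (G := center ↥(S : Subgroup G)) 2 (hcm ▸ dvd_pow_self 2 hm.ne')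
  intro e
  have hz2 : ((z : ↥(S : Subgroup G)) : G) * ((z : ↥(S : Subgroup G)) : G) = 1 := by
    have := pow_orderOf_eq_one z
    rw [hz, pow_two] at this
    exact congrArg (fun y : center ↥(S : Subgroup G) => ((y : ↥(S : Subgroup G)) : G)) this
  have hmem : ((z : ↥(S : Subgroup G)) : G) ∈ zInv (S : Subgroup G) :=
    ⟨(z : ↥(S : Subgroup G)).2, hz2, fun s hs =>
      congrArg Subtype.val (mem_center_iff.mp z.2 ⟨s, hs⟩)⟩
  rw [e, mem_bot] at hmem
  rw [show z = 1 from Subtype.ext (Subtype.ext hmem), orderOf_one] at hz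
  exact absurd hz (by norm_num)

theorem normalizer_ne_top [IsSimpleGroup G] {D : Subgroup G} (h1 : D ≠ ⊥) (h2 : D ≠ ⊤) :
    normalizer (D : Set G) ≠ ⊤ := fun e => by
  haveI : D.Normal := normalizer_eq_top_iff.mp e
  rcases (inferInstance : D.Normal).eq_bot_or_eq_top with e' | e'
  · exact h1 e'
  · exact h2 e'

variable [IsSimpleGroup G] (h : CentralInter G) (h1174 : EmbCriterion.{u}) (S : Sylow 2 G)
include h h1174

theorem exists_se_of_le {T : Subgroup G} (hT : T ≤ zInv (S : Subgroup G))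
    (hinv : ∀ n ∈ normalizer ((S : Subgroup G) : Set G), ∀ x ∈ T, n * x * n⁻¹ ∈ T) (hT1 : T ≠ ⊥)
    {M : Subgroup G} (hM : M ≠ ⊤) (hle : ∀ t ∈ T, t ≠ 1 → centralizer ({t} : Set G) ≤ M) :
    ∃ H : Subgroup G, Cfsg.IsStronglyEmbedded H :=
  h1174 G inferInstance S T hT1 (stronglyClosed_of_invariant h hT hinv)
    (ne_top_of_le_ne_top hM (iSup_le fun t => hle t t.2.1 fun e => by
      have := t.2.2
      rw [e, orderOf_one] at this
      exact absurd this (by norm_num)))

variable (hW : AbFacts.{u}) (hIH : ∀ m, m < Nat.card G → SEBelow.{u} m)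
  (hS : ¬ IsMulCommutative ↥(S : Subgroup G))
include hW hIH hS

omit h1174 in
/-- The part of the 2-core of `C(v)` in `zInv S` is invariant under the normaliser of `S`. -/
theorem twoCoreAt_inf_invariant {v : G} (hv : v ∈ zInv (S : Subgroup G)) (hv1 : v ≠ 1)
    (hO : oddCoreAt v = ⊥) {T : Sylow 2 G} (hne : T ≠ S) (hT : (T : Subgroup G) ≤ centralizer ({v} : Set G))
    {n : G} (hn : n ∈ normalizer ((S : Subgroup G) : Set G)) {x : G}
    (hx : x ∈ zInv (S : Subgroup G) ⊓ twoCoreAt v) : n * x * n⁻¹ ∈ zInv (S : Subgroup G) ⊓ twoCoreAt v := by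
  classical
  refine ⟨zInv_invariant S hn hx.1, ?_⟩
  rcases twoCoreAt_split h hW hIH S hS hv hv1 hO hne hT with hle | ⟨hfix, hcom, hbot⟩
  · exact hle (zInv_invariant S hn hx.1)
  set A := zInv (S : Subgroup G) with hA
  set B := A ⊓ ⁅(S : Subgroup G), (S : Subgroup G)⁆ with hB
  have hBinv : ∀ m ∈ normalizer ((S : Subgroup G) : Set G), ∀ b ∈ B, m * b * m⁻¹ ∈ B := by
    intro m hm b hb
    refine ⟨zInv_invariant S hm hb.1, ?_⟩
    have hN : m ∈ normalizer ((⁅(S : Subgroup G), (S : Subgroup G)⁆ : Subgroup G) : Set G) := by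
      rw [mem_normalizer_iff_map_conj_eq, map_commutator]
      exact congrArg₂ (fun P Q : Subgroup G => ⁅P, Q⁆) (mem_normalizer_iff_map_conj_eq.mp hm)
        (mem_normalizer_iff_map_conj_eq.mp hm)
    exact (mem_normalizer_iff.mp hN b).mp hb.2
  -- the elements of the normaliser trivial on `A / B`
  let L : Subgroup G :=
    { carrier := {m | m ∈ normalizer ((S : Subgroup G) : Set G) ∧ ∀ a ∈ A, m * a * m⁻¹ * a⁻¹ ∈ B}
      one_mem' := ⟨one_mem _, fun a _ => by simp⟩
      mul_mem' := fun {m k} hm hk => ⟨mul_mem hm.1 hk.1, fun a ha => by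
        have := mul_mem (hBinv m hm.1 _ (hk.2 a ha)) (hm.2 a ha)
        rwa [show m * (k * a * k⁻¹ * a⁻¹) * m⁻¹ * (m * a * m⁻¹ * a⁻¹) = m * k * a * (m * k)⁻¹ * a⁻¹ by group]
          at this⟩
      inv_mem' := fun {m} hm => ⟨inv_mem hm.1, fun a ha => by
        have := hBinv m⁻¹ (inv_mem hm.1) _ (inv_mem (hm.2 a ha))
        rwa [show m⁻¹ * (m * a * m⁻¹ * a⁻¹)⁻¹ * m⁻¹⁻¹ = m⁻¹ * a * m⁻¹⁻¹ * a⁻¹ by group] at this⟩ }
  have hLconj : ∀ m ∈ normalizer ((S : Subgroup G) : Set G), ∀ l ∈ L, m * l * m⁻¹ ∈ L := by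
    intro m hm l hl
    refine ⟨mul_mem (mul_mem hm hl.1) (inv_mem hm), fun a ha => ?_⟩
    have := hBinv m hm _ (hl.2 _ (zInv_invariant S (inv_mem hm) ha))
    rwa [show m * (l * (m⁻¹ * a * m⁻¹⁻¹) * l⁻¹ * (m⁻¹ * a * m⁻¹⁻¹)⁻¹) * m⁻¹ =
      m * l * m⁻¹ * a * (m * l * m⁻¹)⁻¹ * a⁻¹ by group] at this
  have hN0 : ∀ m ∈ normalizer ((S : Subgroup G) : Set G), m ∈ centralizer (twoCoreAt v : Set G) → m ∈ L :=
    fun m hm hmR => ⟨hm, fun a ha => ⟨A.mul_mem (zInv_invariant S hm ha) (A.inv_mem ha), hcom a ha m hm hmR⟩⟩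
  have hSL : (S : Subgroup G) ≤ L := fun s hs => ⟨le_normalizer hs, fun a ha => by
    rw [ha.2.2 s hs, mul_inv_cancel_right, mul_inv_cancel]; exact one_mem _⟩
  -- `x` is fixed by `L`
  have hfixed : ∀ l ∈ L, l * x = x * l := by
    have hLA : L ≤ normalizer (A : Set G) := fun l hl => mem_normalizer_iff.mpr fun a =>
      ⟨fun ha => zInv_invariant S hl.1 ha, fun ha => by
        have := zInv_invariant S (inv_mem hl.1) ha
        rwa [show l⁻¹ * (l * a * l⁻¹) * l⁻¹⁻¹ = a by group] at this⟩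
    let φ : ↥L →* MulAut ↥A := A.normalizerMonoidHom.comp (inclusion hLA)
    have hφ : ∀ (l : ↥L) (a : ↥A), ((φ l) a : G) = l * a * (l : G)⁻¹ := fun l a => rfl
    haveI : IsMulCommutative ↥A := ⟨⟨fun a b => Subtype.ext ((b.2.2.2 a a.2.1))⟩⟩
    haveI : Finite (MulAut ↥A) := Finite.of_injective _ MulEquiv.toEquiv_injective
    haveI := Fintype.ofFinite ↥φ.range
    have hoddcard : Odd (Fintype.card ↥φ.range) := by
      rw [← Nat.card_eq_fintype_card, ← index_ker]
      refine Odd.of_dvd_nat (Nat.odd_iff.2 (Nat.two_dvd_ne_zero.1 (S.subtype hSL).not_dvd_index))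
        (Subgroup.index_dvd_of_le fun s hs => ?_)
      refine MonoidHom.mem_ker.mpr (MulEquiv.ext fun a => Subtype.ext ?_)
      rw [hφ]
      show (s : G) * a * (s : G)⁻¹ = a
      rw [a.2.2.2 s hs, mul_inv_cancel_right]
    set p : ↥A := ⟨x, hx.1⟩ with hp
    set f : ↥A := ∏ γ : ↥φ.range, (γ : MulAut ↥A) p with hf
    have hffix : ∀ l : ↥L, φ l f = f := fun l => by
      rw [hf, map_prod]
      exact Fintype.prod_equiv (Equiv.mulLeft ⟨φ l, l, rfl⟩) _ _ fun γ => rfl
    have hfP : (f : G) ∈ twoCoreAt v := hfix _ f.2 fun m hm hmR => by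
      have := congrArg Subtype.val (hffix ⟨m, hN0 m hm hmR⟩)
      rw [hφ] at this
      exact mul_inv_eq_iff_eq_mul.mp this
    have hfB : (f : G) * x⁻¹ ∈ B := by
      let π : ↥A →* ↥A ⧸ B.subgroupOf A := QuotientGroup.mk' (B.subgroupOf A)
      have hγ : ∀ γ : ↥φ.range, π ((γ : MulAut ↥A) p) = π p := by
        rintro ⟨_, l, rfl⟩
        show π (φ l p) = π p
        rw [← mul_inv_eq_one, ← map_inv, ← map_mul]
        refine (QuotientGroup.eq_one_iff _).mpr (mem_subgroupOf.mpr ?_)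
        rw [Subgroup.coe_mul, Subgroup.coe_inv, hφ]
        exact l.2.2 x hx.1
      have hpp : π p * π p = 1 := by
        rw [← map_mul, show p * p = 1 from Subtype.ext hx.1.2.1, map_one]
      have h1 : π f = π p := by
        rw [hf, map_prod, Finset.prod_congr rfl fun γ _ => hγ γ, Finset.prod_const, Finset.card_univ]
        obtain ⟨k, hk⟩ := hoddcard
        rw [hk, pow_succ, pow_mul, pow_two, hpp, one_pow, one_mul]
      rw [← mul_inv_eq_one, ← map_inv, ← map_mul] at h1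
      exact mem_subgroupOf.mp ((QuotientGroup.eq_one_iff _).mp h1)
    have hfx : (f : G) * x⁻¹ = 1 := by
      have : (f : G) * x⁻¹ ∈ twoCoreAt v ⊓ ⁅(S : Subgroup G), (S : Subgroup G)⁆ :=
        ⟨(twoCoreAt v).mul_mem hfP ((twoCoreAt v).inv_mem hx.2), hfB.2⟩
      rwa [hbot, mem_bot] at this
    intro l hl
    have := congrArg Subtype.val (hffix ⟨l, hl⟩)
    rw [hφ, mul_inv_eq_one.mp hfx] at this
    exact mul_inv_eq_iff_eq_mul.mp this
  refine hfix _ (zInv_invariant S hn hx.1) fun m hm hmR => ?_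
  have h1 := hfixed _ (hLconj n⁻¹ (inv_mem hn) m (hN0 m hm hmR))
  calc m * (n * x * n⁻¹) = n * (n⁻¹ * m * n⁻¹⁻¹ * x) * n⁻¹ := by group
    _ = n * (x * (n⁻¹ * m * n⁻¹⁻¹)) * n⁻¹ := by rw [h1]
    _ = n * x * n⁻¹ * m := by group

theorem exists_stronglyEmbedded : ∃ H : Subgroup G, Cfsg.IsStronglyEmbedded H := by
  have hna := not_comm_of_sylow_ne hS
  obtain ⟨v₀, hv₀, hv₀1⟩ := (zInv (S : Subgroup G)).bot_or_exists_ne_one.resolve_left (zInv_ne_bot hS)
  have heq : ∀ a ∈ zInv (S : Subgroup G), a ≠ 1 → oddCoreAt a = oddCoreAt v₀ := fun a ha ha1 =>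
    le_antisymm (oddCoreAt_le h hW hIH S hS ha hv₀ hv₀1) (oddCoreAt_le h hW hIH S hS hv₀ ha ha1)
  by_cases hD : oddCoreAt v₀ = ⊥
  swap
  · refine exists_se_of_le h h1174 S le_rfl (fun n hn x hx => zInv_invariant S hn hx) (zInv_ne_bot hS)
      (normalizer_ne_top hD fun e => ?_) fun t ht ht1 => heq t ht ht1 ▸ centralizer_le_normalizer_oddCoreAt t
    have h1 := odd_card_oddCoreAt v₀
    rw [e, card_top] at h1
    exact h1.not_two_dvd_nat (dvd_trans
      (orderOf_eq_prime (by rw [pow_two]; exact hv₀.2.1) hv₀1).symm.dvd (orderOf_dvd_natCard v₀))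
  by_cases hclosed : ∀ a ∈ zInv (S : Subgroup G), a ≠ 1 →
      centralizer ({a} : Set G) ≤ normalizer ((S : Subgroup G) : Set G)
  · refine exists_se_of_le h h1174 S le_rfl (fun n hn x hx => zInv_invariant S hn hx) (zInv_ne_bot hS)
      (normalizer_ne_top (sylow_ne_bot hS) fun e => ?_) hclosed
    obtain ⟨T, hT⟩ := exists_ne_sylow hna S (sylow_ne_bot hS)
    exact hT (Sylow.ext ((T.3 S.isPGroup' (e ▸ le_top)).symm))
  push Not at hclosed
  obtain ⟨v, hv, hv1, hvN⟩ := hclosed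
  obtain ⟨c, hc, hcN⟩ := SetLike.not_le_iff_exists.mp hvN
  have hO : ∀ a ∈ zInv (S : Subgroup G), a ≠ 1 → oddCoreAt a = ⊥ := fun a ha ha1 => (heq a ha ha1).trans hD
  set T := c • S with hTdef
  have hne : T ≠ S := fun e => hcN (Sylow.smul_eq_iff_mem_normalizer.mp e)
  have hSv := le_centralizer_singleton_of_zInv hv
  have hTv : (T : Subgroup G) ≤ centralizer ({v} : Set G) := fun t ht => by
    have h1 := hSv (mem_smul_iff.mp ht)
    have := mul_mem (mul_mem hc h1) (inv_mem hc)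
    rwa [show c * (c⁻¹ * t * c) * c⁻¹ = t by group] at this
  -- the Sylow subgroups of the centralisers agree
  have hsame : ∀ p ∈ zInv (S : Subgroup G) ⊓ twoCoreAt v, p ≠ 1 → ∀ U : Sylow 2 G,
      ((U : Subgroup G) ≤ centralizer ({p} : Set G) ↔ (U : Subgroup G) ≤ centralizer ({v} : Set G)) := by
    intro p hp hp1 U
    have hdown : ∀ W : Sylow 2 G, (W : Subgroup G) ≤ centralizer ({v} : Set G) →
        (W : Subgroup G) ≤ centralizer ({p} : Set G) := fun W hW' w hw => mem_centralizer_singleton_iff.mpr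
      (mem_centralizer_iff.mp (le_centralizer_twoCoreAt h hW hIH S hS hv hv1 (hO v hv hv1) hne hTv hW' hw) p hp.2).symm
    have hTp := hdown T hTv
    have hvR : v ∈ twoCoreAt p :=
      mem_twoCoreAt_of_second h hW hIH S hS hp.1 hp1 (hO p hp.1 hp1) hne hTp hv hne hTp hTv
    refine ⟨fun hU u hu => mem_centralizer_singleton_iff.mpr ?_, hdown U⟩
    exact (mem_centralizer_iff.mp
      (le_centralizer_twoCoreAt h hW hIH S hS hp.1 hp1 (hO p hp.1 hp1) hne hTp hU hu) v hvR).symm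
  set X : Subgroup G :=
    ⨆ U : {U : Sylow 2 G // (U : Subgroup G) ≤ centralizer ({v} : Set G)}, ((U : Sylow 2 G) : Subgroup G) with hX
  have hSX : (S : Subgroup G) ≤ X :=
    le_iSup (fun U : {U : Sylow 2 G // (U : Subgroup G) ≤ centralizer ({v} : Set G)} =>
      ((U : Sylow 2 G) : Subgroup G)) ⟨S, hSv⟩
  refine exists_se_of_le h h1174 S (T := zInv (S : Subgroup G) ⊓ twoCoreAt v) inf_le_left
    (fun n hn x hx => twoCoreAt_inf_invariant h S hW hIH hS hv hv1 (hO v hv hv1) hne hTv hn hx)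
    (fun e => hv1 (mem_bot.mp (e ▸ (show v ∈ zInv (S : Subgroup G) ⊓ twoCoreAt v from
      ⟨hv, mem_twoCoreAt_self S hv hv1⟩))))
    (M := normalizer (X : Set G)) (normalizer_ne_top (fun e => sylow_ne_bot hS (le_bot_iff.mp (e ▸ hSX)))
      (ne_top_of_le_ne_top (centralizer_ne_top_of_simple hna hv1) (iSup_le fun U => U.2))) fun p hp hp1 g hg => ?_
  have hle : ∀ g ∈ centralizer ({p} : Set G), ∀ x ∈ X, g * x * g⁻¹ ∈ X := by
    intro g hg
    suffices X.map (MulAut.conj g).toMonoidHom ≤ X from fun x hx => this ⟨x, hx, rfl⟩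
    rw [hX, Subgroup.map_iSup]
    refine iSup_le fun U => ?_
    have hgU : ((g • (U : Sylow 2 G) : Sylow 2 G) : Subgroup G) ≤ centralizer ({v} : Set G) := by
      refine (hsame p hp hp1 _).mp fun u hu => ?_
      have h1 := (hsame p hp hp1 _).mpr U.2 (mem_smul_iff.mp hu)
      have := mul_mem (mul_mem hg h1) (inv_mem hg)
      rwa [show g * (g⁻¹ * u * g) * g⁻¹ = u by group] at this
    exact le_iSup (fun W : {W : Sylow 2 G // (W : Subgroup G) ≤ centralizer ({v} : Set G)} =>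
      ((W : Sylow 2 G) : Subgroup G)) ⟨g • (U : Sylow 2 G), hgU⟩
  refine mem_normalizer_iff.mpr fun x => ⟨hle g hg x, fun hx => ?_⟩
  have := hle g⁻¹ (inv_mem hg) _ hx
  rwa [show g⁻¹ * (g * x * g⁻¹) * g⁻¹⁻¹ = x by group] at this

omit h h1174 hW hIH hS in
theorem seBelow (h1174 : EmbCriterion.{u}) (hW : AbFacts.{u}) : ∀ n : ℕ, SEBelow.{u} n := by
  intro n
  induction n with
  | zero =>
    intro X _ _ hX
    exact absurd hX (Nat.not_le.mpr Nat.card_pos)
  | succ n ih =>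
    intro X _ _ hX hsimp hCI S hS
    exact exists_stronglyEmbedded hCI h1174 S hW (fun m hm => ih.mono (by omega)) hS

end Cfsg.Agent.H91.CI
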