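import Cfsg.Agent.H91.CI.Global
import Cfsg.Agent.H88.Walter.Data
import Cfsg.Agent.S1245
import Cfsg.Agent.S0252
import Cfsg.Agent.S0253

/-!
# The classification of simple groups with central Sylow 2-intersections

From the classification of simple groups with abelian Sylow 2-subgroups, the facts about them, and the
criterion for strongly closed subgroups.
-/

set_option autoImplicit false
set_option linter.style.haveILetI false

namespace Cfsg.Agent.H91.CI

open Subgroup Cfsg.Agent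
open Cfsg.Agent.H10.Walter (WalterHyp AbSyl Shape)

universe u

local instance fact_two_main : Fact (Nat.Prime 2) := ⟨Nat.prime_two⟩

theorem abFacts (hWal : WalterHyp.{u}) (hd : H88.Walter.ShapeData.{u}) : AbFacts.{u} := by
  intro X _ _ hsimp hna P hP x hx y hy hx1 hy1
  have hab := H10.Walter.absyl_of_sylow P hP
  obtain ⟨n, hn, hc⟩ := (hd X hsimp hna hab (hWal X hsimp hna hab) P).cyc
  obtain ⟨k, hk⟩ := hc x hx y hy hx1 hy1
  exact ⟨n ^ k, pow_mem hn k, hk⟩

/-- The conclusion, with the abelian classification and the embedding criterion as inputs. -/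
theorem simple_central_intersections (hWal : WalterHyp.{u}) (hd : H88.Walter.ShapeData.{u})
    (h1174 : EmbCriterion.{u}) {G : Type u} [Group G] [Finite G] [IsSimpleGroup G]
    (hG : ¬ IsMulCommutative G)
    (hCI : ∀ S T : Sylow 2 G, S ≠ T → ∃ U : Sylow 2 G,
      (S : Subgroup G) ⊓ (T : Subgroup G) ≤ (Subgroup.center ↥(U : Subgroup G)).map (U : Subgroup G).subtype) :
    (∃ (F : Type) (_ : Field F) (_ : Fintype F),
        (Fintype.card F % 8 = 0 ∨ Fintype.card F % 8 = 3 ∨ Fintype.card F % 8 = 5) ∧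
        Nonempty (G ≃* Matrix.ProjectiveSpecialLinearGroup (Fin 2) F)) ∨
    ((∀ S : Sylow 2 G, IsMulCommutative ↥(S : Subgroup G)) ∧
      ∃ t : G, orderOf t = 2 ∧ IsCoatom (Subgroup.centralizer ({t} : Set G)) ∧
        ∃ E : Subgroup G, Cfsg.IsInternalDirectProduct (Subgroup.zpowers t) E (Subgroup.centralizer ({t} : Set G)) ∧
          ∃ (F : Type) (_ : Field F) (_ : Fintype F), Odd (Fintype.card F) ∧ 3 < Fintype.card F ∧
            ∃ N : Subgroup ↥E, N.Normal ∧ Nonempty (↥N ≃* Matrix.ProjectiveSpecialLinearGroup (Fin 2) F) ∧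
              Subgroup.centralizer (N : Set ↥E) = ⊥) ∨
    (∃ (m : ℕ) (F : Type) (_ : Field F) (_ : Fintype F), 1 ≤ m ∧ Fintype.card F = 2 ^ (2 * m + 1) ∧
        Nonempty (G ≃* ↥(Cfsg.Lie.Sz F (2 ^ (m + 1))))) ∨
    (∃ (n : ℕ) (F : Type) (_ : Field F) (_ : Fintype F), 2 ≤ n ∧ Fintype.card F = 4 ^ n ∧
        Nonempty (G ≃* Cfsg.PSU 3 F (2 ^ n))) := by
  classical
  obtain ⟨S⟩ : Nonempty (Sylow 2 G) := inferInstance
  by_cases hS : IsMulCommutative ↥(S : Subgroup G)
  · -- abelian Sylow 2-subgroups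
    have hab : AbSyl G := H10.Walter.absyl_of_sylow S hS
    rcases hWal G inferInstance hG hab with
      ⟨F, _, _, n, hn, hF, ⟨e⟩⟩ | ⟨F, _, _, -, h8, he⟩ |
      ⟨-, -, t, E, E₀, ht, hprod, hle, hnorm, ⟨F, _, _, h5, h8, ⟨e⟩⟩, hcent⟩
    · by_cases h3 : 3 ≤ n
      · refine Or.inl ⟨F, inferInstance, inferInstance, Or.inl ?_, ⟨e⟩⟩
        rw [hF]
        exact Nat.mod_eq_zero_of_dvd ((show (8 : ℕ) = 2 ^ 3 from rfl) ▸ pow_dvd_pow 2 h3)
      · obtain rfl : n = 2 := by omega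
        haveI : Fact (Nat.Prime 5) := ⟨by norm_num⟩
        obtain ⟨e4⟩ := S0252.result (F := F) (by rw [hF]; rfl)
        obtain ⟨e5⟩ := S0253.result (F := ZMod 5) (ZMod.card 5)
        exact Or.inl ⟨ZMod 5, inferInstance, inferInstance, Or.inr (Or.inr (by rw [ZMod.card])),
          ⟨(e.trans e4).trans e5.symm⟩⟩
    · exact Or.inl ⟨F, inferInstance, inferInstance, Or.inr h8, he⟩
    · have hodd : Odd (Fintype.card F) := Nat.odd_iff.mpr (by omega)
      refine Or.inr (Or.inl ⟨hab, t, ht, S1245.result hG S hS t ht E E₀ hprod hle hnorm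
        ⟨F, inferInstance, inferInstance, hodd, ⟨e⟩⟩ hcent, E, hprod, F, inferInstance, inferInstance, hodd, by omega, E₀.subgroupOf E, hnorm,
        ⟨(subgroupOfEquivOfLe hle).trans e⟩, ?_⟩)
      refine le_bot_iff.mp fun x hx => mem_bot.mpr (Subtype.ext ?_)
      have : (x : G) ∈ E ⊓ centralizer (E₀ : Set G) := ⟨x.2, mem_centralizer_iff.mpr fun y hy =>
        congrArg Subtype.val (mem_centralizer_iff.mp hx ⟨y, hle hy⟩ hy)⟩
      rwa [hcent, mem_bot] at this
  · -- Bender's list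
    have h := centralInter_of_hyp hCI
    obtain ⟨H, hH⟩ := seBelow h1174 (abFacts hWal hd) (Nat.card G) G le_rfl inferInstance h S hS
    rcases (benderFacts S hS H hH).list with hSz | ⟨F, _, _, q, hF, hev, h4, ⟨e⟩⟩ | ⟨F, _, _, _, h8, ⟨e⟩⟩
    · obtain ⟨F, _, _, m, hm, hF, he⟩ := hSz
      exact Or.inr (Or.inr (Or.inl ⟨m, F, inferInstance, inferInstance, hm, hF, he⟩))
    · obtain ⟨p, _, k, hp, hk⟩ := FiniteField.card' F
      have hq : q ∣ p ^ (k : ℕ) := ⟨q, by rw [← hk, hF, pow_two]⟩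
      obtain ⟨n, -, rfl⟩ := (Nat.dvd_prime_pow hp).mp hq
      obtain rfl : p = 2 := ((Nat.prime_dvd_prime_iff_eq Nat.prime_two hp).mp
        (Nat.prime_two.dvd_of_dvd_pow (even_iff_two_dvd.mp hev))).symm
      refine Or.inr (Or.inr (Or.inr ⟨n, F, inferInstance, inferInstance, ?_, ?_, ⟨e⟩⟩))
      · by_contra hlt
        have := Nat.pow_le_pow_right (show 1 ≤ 2 by norm_num) (show n ≤ 1 by omega)
        omega
      · rw [hF, ← pow_mul, show (4 : ℕ) = 2 ^ 2 from rfl, ← pow_mul, mul_comm]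
    · obtain ⟨k, -, hk⟩ := FiniteField.card F 2
      refine Or.inl ⟨F, inferInstance, inferInstance, Or.inl ?_, ⟨e⟩⟩
      rw [hk] at h8 ⊢
      have h3 : 3 ≤ (k : ℕ) := by
        by_contra h3
        have := Nat.pow_le_pow_right (show 1 ≤ 2 by norm_num) (show (k : ℕ) ≤ 2 by omega)
        omega
      exact Nat.mod_eq_zero_of_dvd ((show (8 : ℕ) = 2 ^ 3 from rfl) ▸ pow_dvd_pow 2 h3)

end Cfsg.Agent.H91.CI
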