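import Cfsg.Prelude.Def_Involutions
import Cfsg.Prelude.Def_TwoFusion
import Cfsg.Agent.S0215
import Mathlib

/-!
# Groups with central Sylow 2-intersections

`CentralInter G`: two distinct Sylow 2-subgroups meet in elements central in the first one (hence in both).
This follows from the weaker hypothesis that each intersection is central in some Sylow 2-subgroup, and
passes to subgroups and to all quotients.
-/

set_option autoImplicit false
set_option linter.style.haveILetI false
set_option linter.unusedSectionVars false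

namespace Cfsg.Agent.H91.CI

open Subgroup
open scoped Pointwise

variable {G : Type*} [Group G]

/-- Distinct Sylow 2-subgroups meet centrally. -/
def CentralInter (G : Type*) [Group G] : Prop :=
  ∀ S T : Sylow 2 G, S ≠ T → ∀ x ∈ (S : Subgroup G), x ∈ (T : Subgroup G) → ∀ s ∈ (S : Subgroup G), s * x = x * s

/-- The elements of order at most 2 in the centre of `S`. -/
def zInv (S : Subgroup G) : Subgroup G where
  carrier := {x | x ∈ S ∧ x * x = 1 ∧ ∀ s ∈ S, s * x = x * s}
  one_mem' := ⟨one_mem S, one_mul 1, fun s _ => by rw [mul_one, one_mul]⟩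
  mul_mem' := by
    rintro a b ⟨ha, ha2, hac⟩ ⟨hb, hb2, hbc⟩
    refine ⟨mul_mem ha hb, ?_, fun s hs => ?_⟩
    · calc a * b * (a * b) = a * (b * a) * b := by group
        _ = a * (a * b) * b := by rw [hac b hb]
        _ = (a * a) * (b * b) := by group
        _ = 1 := by rw [ha2, hb2, mul_one]
    · rw [← mul_assoc, hac s hs, mul_assoc, hbc s hs, mul_assoc]
  inv_mem' := by
    rintro a ⟨ha, ha2, hac⟩
    rw [show a⁻¹ = a from inv_eq_of_mul_eq_one_right ha2]
    exact ⟨ha, ha2, hac⟩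

theorem zInv_le (S : Subgroup G) : zInv S ≤ S := fun _ hx => hx.1

theorem mem_zInv {S : Subgroup G} {x : G} :
    x ∈ zInv S ↔ x ∈ S ∧ x * x = 1 ∧ ∀ s ∈ S, s * x = x * s := Iff.rfl

theorem conj_mem_sylow_iff {S : Sylow 2 G} {x g : G} :
    g * x * g⁻¹ ∈ ((g • S : Sylow 2 G) : Subgroup G) ↔ x ∈ (S : Subgroup G) :=
  ⟨fun ⟨y, hy, e⟩ => by
    obtain rfl : y = x := by simpa using e
    exact hy, fun hx => ⟨x, hx, rfl⟩⟩

/-- A product of two 2-elements, one normalising a Sylow 2-subgroup, stays inside it. -/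
theorem mem_of_mem_normalizer [Finite G] (S : Sylow 2 G) {R : Subgroup G} (hR : IsPGroup 2 R)
    (hRN : R ≤ normalizer ((S : Subgroup G) : Set G)) : R ≤ (S : Subgroup G) := by
  haveI : Fact (Nat.Prime 2) := ⟨Nat.prime_two⟩
  have hp := hR.to_sup_of_normal_right' S.isPGroup' hRN
  exact (S.3 hp le_sup_right) ▸ le_sup_left

theorem exists_not_central [Finite G] {S : Sylow 2 G} (hS : ¬ IsMulCommutative ↥(S : Subgroup G)) :
    ∃ x ∈ (S : Subgroup G), ∃ y ∈ (S : Subgroup G), x * y ≠ y * x := by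
  by_contra h
  push Not at h
  exact hS ⟨⟨fun a b => Subtype.ext (h a a.2 b b.2)⟩⟩

theorem not_comm_of_sylow [Finite G] {S : Sylow 2 G} (hS : ¬ IsMulCommutative ↥(S : Subgroup G)) (T : Sylow 2 G) :
    ¬ IsMulCommutative ↥(T : Subgroup G) := by
  intro hT
  haveI : Fact (Nat.Prime 2) := ⟨Nat.prime_two⟩
  obtain ⟨g, rfl⟩ := MulAction.exists_smul_eq G S T
  refine hS ⟨⟨fun a b => Subtype.ext ?_⟩⟩
  have h := congrArg Subtype.val (hT.is_comm.comm ⟨g * a * g⁻¹, conj_mem_sylow_iff.mpr a.2⟩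
    ⟨g * b * g⁻¹, conj_mem_sylow_iff.mpr b.2⟩)
  simp only [Subgroup.coe_mul] at h
  show (a : G) * b = b * a
  have e : g * ((a : G) * b) * g⁻¹ = g * ((b : G) * a) * g⁻¹ := by
    rw [show g * ((a : G) * b) * g⁻¹ = g * a * g⁻¹ * (g * b * g⁻¹) by group,
      show g * ((b : G) * a) * g⁻¹ = g * b * g⁻¹ * (g * a * g⁻¹) by group]
    exact h
  exact mul_left_cancel (mul_right_cancel e)

variable [Finite G]

/-- Intersections central in some Sylow 2-subgroup are central in both. -/
theorem centralInter_of_hyp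
    (h : ∀ S T : Sylow 2 G, S ≠ T → ∃ U : Sylow 2 G,
      (S : Subgroup G) ⊓ (T : Subgroup G) ≤
        (Subgroup.center ↥(U : Subgroup G)).map (U : Subgroup G).subtype) :
    CentralInter G := by
  haveI : Fact (Nat.Prime 2) := ⟨Nat.prime_two⟩
  suffices key : ∀ n, ∀ S T : Sylow 2 G, S ≠ T →
      Nat.card G - Nat.card ↥((S : Subgroup G) ⊓ (T : Subgroup G)) = n →
      (S : Subgroup G) ⊓ (T : Subgroup G) ≤ centralizer ((S : Subgroup G) : Set G) by
    intro S T hne x hxS hxT s hs
    exact mem_centralizer_iff.mp (key _ S T hne rfl ⟨hxS, hxT⟩) s hs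
  intro n
  induction n using Nat.strong_induction_on with
  | _ n ih =>
    intro S T hne hn
    set D := (S : Subgroup G) ⊓ (T : Subgroup G) with hD
    obtain ⟨U, hU⟩ := h S T hne
    have hUC : (U : Subgroup G) ≤ centralizer (D : Set G) := by
      intro u hu
      refine mem_centralizer_iff.mpr fun d hd => ?_
      obtain ⟨c, hc, rfl⟩ := hU hd
      exact (congrArg Subtype.val (mem_center_iff.mp hc ⟨u, hu⟩)).symm
    have hDS : D < (S : Subgroup G) := by
      refine lt_of_le_of_ne inf_le_left fun e => hne (Sylow.ext ?_)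
      exact (S.3 T.isPGroup' (e ▸ inf_le_right)).symm
    -- normalisers grow in `S`
    obtain ⟨R₀, hR₀p, hR₀D, hR₀S, hR₀N⟩ :
        ∃ R₀ : Subgroup G, IsPGroup 2 R₀ ∧ D < R₀ ∧ R₀ ≤ (S : Subgroup G) ∧
          R₀ ≤ normalizer (D : Set G) := by
      haveI : Group.IsNilpotent ↥(S : Subgroup G) := S.isPGroup'.isNilpotent
      have hlt : D.subgroupOf S < ⊤ := lt_top_iff_ne_top.mpr fun e =>
        hDS.ne (le_antisymm inf_le_left (subgroupOf_eq_top.mp e))
      obtain ⟨x, hxN, hxD⟩ := SetLike.exists_of_lt (Group.normalizerCondition_of_isNilpotent _ hlt)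
      have hN : (x : G) ∈ normalizer (D : Set G) := by
        refine mem_normalizer_iff.mpr fun y => ⟨fun hy => ?_, fun hy => ?_⟩
        · have := (mem_normalizer_iff.mp hxN ⟨y, hDS.le hy⟩).mp (mem_subgroupOf.mpr hy)
          exact mem_subgroupOf.mp this
        · have hyS : y ∈ (S : Subgroup G) := by
            have := mul_mem (mul_mem (inv_mem x.2) (hDS.le hy)) x.2
            rwa [show (x : G)⁻¹ * ((x : G) * y * (x : G)⁻¹) * x = y by group] at this
          exact mem_subgroupOf.mp ((mem_normalizer_iff.mp hxN ⟨y, hyS⟩).mpr (mem_subgroupOf.mpr hy))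
      refine ⟨D ⊔ zpowers (x : G), S.isPGroup'.to_le (sup_le hDS.le (zpowers_le.mpr x.2)), ?_,
        sup_le hDS.le (zpowers_le.mpr x.2), sup_le le_normalizer (zpowers_le.mpr hN)⟩
      refine lt_of_le_of_ne le_sup_left fun e => hxD (mem_subgroupOf.mpr ?_)
      rw [e]
      exact mem_sup_right (mem_zpowers _)
    -- a Sylow subgroup of `G` containing `R₀` and centralising `D`
    obtain ⟨R, hR₀R, hRC⟩ : ∃ R : Sylow 2 G, R₀ ≤ (R : Subgroup G) ∧
        (R : Subgroup G) ≤ centralizer (D : Set G) := by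
      set N := normalizer (D : Set G) with hN
      have hUN : (U : Subgroup G) ≤ N := hUC.trans (centralizer_le_normalizer _)
      obtain ⟨P, hP⟩ := (hR₀p.comap_of_injective N.subtype N.subtype_injective).exists_le_sylow
      set UN : Sylow 2 N := U.subtype hUN with hUNdef
      obtain ⟨k, hk⟩ := MulAction.exists_smul_eq N UN P
      refine ⟨(k : G) • U, fun x hx => ?_, ?_⟩
      · have hxP : (⟨x, hR₀N hx⟩ : N) ∈ (P : Subgroup N) := hP hx
        rw [← hk] at hxP
        obtain ⟨y, hy, e⟩ := hxP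
        exact ⟨y, hy, congrArg Subtype.val e⟩
      · rintro _ ⟨y, hy, rfl⟩
        refine mem_centralizer_iff.mpr fun d hd => ?_
        have hd' : (k : G)⁻¹ * d * (k : G) ∈ D := (mem_normalizer_iff''.mp k.2 d).mp hd
        have hc := mem_centralizer_iff.mp (hUC hy) _ hd'
        show d * ((k : G) * y * (k : G)⁻¹) = (k : G) * y * (k : G)⁻¹ * d
        calc d * ((k : G) * y * (k : G)⁻¹) = (k : G) * (((k : G)⁻¹ * d * k) * y) * (k : G)⁻¹ := by group
          _ = (k : G) * (y * ((k : G)⁻¹ * d * k)) * (k : G)⁻¹ := by rw [hc]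
          _ = (k : G) * y * (k : G)⁻¹ * d := by group
    rcases eq_or_ne R S with rfl | hRS
    · exact le_centralizer_iff.mp hRC
    · have hlt : D < (S : Subgroup G) ⊓ (R : Subgroup G) :=
        lt_of_lt_of_le hR₀D (le_inf hR₀S hR₀R)
      refine hlt.le.trans (ih _ ?_ S R hRS.symm rfl)
      have h1 : Nat.card ↥D < Nat.card ↥((S : Subgroup G) ⊓ (R : Subgroup G)) :=
        lt_of_le_of_ne (Subgroup.card_le_of_le hlt.le) fun e =>
          hlt.ne (eq_of_le_of_card_ge hlt.le e.ge)
      have h2 := ((S : Subgroup G) ⊓ (R : Subgroup G)).card_le_card_group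
      omega

theorem CentralInter.subgroup (h : CentralInter G) (H : Subgroup G) : CentralInter H := by
  haveI : Fact (Nat.Prime 2) := ⟨Nat.prime_two⟩
  intro S T hne x hxS hxT s hs
  obtain ⟨S', hS'⟩ := (S.isPGroup'.map H.subtype).exists_le_sylow
  obtain ⟨T', hT'⟩ := (T.isPGroup'.map H.subtype).exists_le_sylow
  have hST : S' ≠ T' := by
    rintro rfl
    refine hne (Sylow.ext ?_)
    have hp : IsPGroup 2 ↥((S : Subgroup H) ⊔ (T : Subgroup H)) :=
      (S'.isPGroup'.comap_of_injective H.subtype H.subtype_injective).to_le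
        (sup_le (fun y hy => hS' (mem_map_of_mem _ hy)) fun y hy => hT' (mem_map_of_mem _ hy))
    exact (S.3 hp le_sup_left).symm.trans (T.3 hp le_sup_right)
  exact Subtype.ext (h S' T' hST _ (hS' (mem_map_of_mem _ hxS)) (hT' (mem_map_of_mem _ hxT)) _
    (hS' (mem_map_of_mem _ hs)))

theorem CentralInter.of_surjective (h : CentralInter G) {Q : Type*} [Group Q] [Finite Q] {π : G →* Q}
    (hπ : Function.Surjective π) : CentralInter Q := by
  haveI : Fact (Nat.Prime 2) := ⟨Nat.prime_two⟩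
  intro S T hne x hxS hxT s hs
  obtain ⟨S, rfl⟩ := Sylow.mapSurjective_surjective hπ 2 S
  obtain ⟨T, rfl⟩ := Sylow.mapSurjective_surjective hπ 2 T
  rw [Sylow.coe_mapSurjective] at hxS hxT hs
  obtain ⟨x, hx, rfl⟩ := hxS
  obtain ⟨s, hs, rfl⟩ := hs
  set H : Subgroup G := ((T : Subgroup G).map π).comap π with hH
  have hTH : (T : Subgroup G) ≤ H := le_comap_map _ _
  set D : Subgroup G := (S : Subgroup G) ⊓ H with hD
  have hDp : IsPGroup 2 ↥(D.subgroupOf H) :=
    (S.isPGroup'.to_le (inf_le_left : D ≤ _)).comap_of_injective H.subtype H.subtype_injective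
  obtain ⟨P, hP⟩ := hDp.exists_le_sylow
  obtain ⟨k, hk⟩ := MulAction.exists_smul_eq H (T.subtype hTH) P
  have himg : ((((k : G) • T : Sylow 2 G) : Subgroup G)).map π = (T : Subgroup G).map π := by
    have hkN : π (k : G) ∈ normalizer (((T : Subgroup G).map π : Subgroup Q) : Set Q) :=
      le_normalizer (show π (k : G) ∈ (T : Subgroup G).map π from k.2)
    conv_rhs => rw [← mem_normalizer_iff_map_conj_eq.mp hkN]
    show ((T : Subgroup G).map (MulAut.conj (k : G)).toMonoidHom).map π =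
      ((T : Subgroup G).map π).map (MulAut.conj (π (k : G))).toMonoidHom
    rw [map_map, map_map]
    exact congrArg (fun φ : G →* Q => (T : Subgroup G).map φ) (MonoidHom.ext fun y => by simp)
  have hxT' : x ∈ (((k : G) • T : Sylow 2 G) : Subgroup G) := by
    have h0 : (⟨x, show x ∈ H from hxT⟩ : H) ∈ (P : Subgroup H) :=
      hP (mem_subgroupOf.mpr ⟨hx, hxT⟩)
    rw [← hk] at h0
    obtain ⟨y, hy, e⟩ := h0
    exact ⟨y, hy, congrArg Subtype.val e⟩
  have hne' : S ≠ (k : G) • T := fun e => hne (Sylow.ext (by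
    rw [Sylow.coe_mapSurjective, Sylow.coe_mapSurjective, ← himg, ← e]))
  rw [← map_mul, ← map_mul, h S _ hne' x hx hxT' s hs]

variable (h : CentralInter G)
include h

theorem eq_of_mem {S T : Sylow 2 G} {x : G} (hxS : x ∈ (S : Subgroup G)) (hxT : x ∈ (T : Subgroup G))
    {s : G} (hs : s ∈ (S : Subgroup G)) (hsx : s * x ≠ x * s) : S = T := by
  by_contra hne
  exact hsx (h S T hne x hxS hxT s hs)

/-- An element conjugate into `S` from outside the centre only moves inside the normaliser. -/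
theorem mem_normalizer_of_conj {S : Sylow 2 G} {x g : G} (hxS : x ∈ (S : Subgroup G))
    (hgx : g * x * g⁻¹ ∈ (S : Subgroup G))
    {s : G} (hs : s ∈ (S : Subgroup G)) (hsx : s * x ≠ x * s) :
    g ∈ normalizer ((S : Subgroup G) : Set G) := by
  have hx' : x ∈ ((g⁻¹ • S : Sylow 2 G) : Subgroup G) := ⟨g * x * g⁻¹, hgx, by
    show g⁻¹ * (g * x * g⁻¹) * g⁻¹⁻¹ = x
    group⟩
  have := eq_of_mem h hxS hx' hs hsx
  have h2 : g⁻¹ ∈ normalizer ((S : Subgroup G) : Set G) := Sylow.smul_eq_iff_mem_normalizer.mp this.symm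
  simpa using inv_mem h2

theorem centralizer_le_normalizer_sylow {S : Sylow 2 G} {x : G} (hxS : x ∈ (S : Subgroup G))
    {s : G} (hs : s ∈ (S : Subgroup G)) (hsx : s * x ≠ x * s) :
    centralizer ({x} : Set G) ≤ normalizer ((S : Subgroup G) : Set G) := by
  intro g hg
  refine mem_normalizer_of_conj h hxS ?_ hs hsx
  rw [mem_centralizer_singleton_iff.mp hg, mul_inv_cancel_right]
  exact hxS

/-- Central elements fused in `G` are fused in the normaliser. -/
theorem exists_conj_normalizer {S : Sylow 2 G} {z g : G} (hzS : z ∈ (S : Subgroup G))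
    (hz : ∀ s ∈ (S : Subgroup G), s * z = z * s) (hgz : g * z * g⁻¹ ∈ (S : Subgroup G)) :
    (∀ s ∈ (S : Subgroup G), s * (g * z * g⁻¹) = g * z * g⁻¹ * s) ∧
      ∃ n ∈ normalizer ((S : Subgroup G) : Set G), n * z * n⁻¹ = g * z * g⁻¹ := by
  haveI : Fact (Nat.Prime 2) := ⟨Nat.prime_two⟩
  set w := g * z * g⁻¹ with hw
  have hcen : ∀ s ∈ (S : Subgroup G), s * w = w * s := by
    intro s hs
    by_contra hsw
    have hg' : g⁻¹ ∈ normalizer ((S : Subgroup G) : Set G) :=
      mem_normalizer_of_conj h hgz (by rw [hw, inv_inv]; simpa [mul_assoc] using hzS) hs hsw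
    have hg : g ∈ normalizer ((S : Subgroup G) : Set G) := by simpa using inv_mem hg'
    have hs' : g⁻¹ * s * g ∈ (S : Subgroup G) := (mem_normalizer_iff''.mp hg s).mp hs
    have := hz _ hs'
    refine hsw ?_
    calc s * w = g * (g⁻¹ * s * g * z) * g⁻¹ := by rw [hw]; group
      _ = g * (z * (g⁻¹ * s * g)) * g⁻¹ := by rw [this]
      _ = w * s := by rw [hw]; group
  refine ⟨hcen, ?_⟩
  -- both `S` and `g • S` are Sylow subgroups of `C(w)`
  set C := centralizer ({w} : Set G) with hC
  have hSC : (S : Subgroup G) ≤ C := fun s hs => mem_centralizer_singleton_iff.mpr (hcen s hs)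
  have hgSC : ((g • S : Sylow 2 G) : Subgroup G) ≤ C := by
    rintro _ ⟨s, hs, rfl⟩
    refine mem_centralizer_singleton_iff.mpr ?_
    show g * s * g⁻¹ * w = w * (g * s * g⁻¹)
    calc g * s * g⁻¹ * w = g * (s * z) * g⁻¹ := by rw [hw]; group
      _ = g * (z * s) * g⁻¹ := by rw [hz s hs]
      _ = w * (g * s * g⁻¹) := by rw [hw]; group
  obtain ⟨c, hc⟩ := MulAction.exists_smul_eq C ((g • S).subtype hgSC) (S.subtype hSC)
  have hcS : (c : G) • (g • S) = S := by
    refine Sylow.ext ?_
    refine le_antisymm ?_ ?_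
    · rintro _ ⟨y, hy, rfl⟩
      have : (⟨(c : G) * y * (c : G)⁻¹, mul_mem (mul_mem c.2 (hgSC hy)) (inv_mem c.2)⟩ : C) ∈
          (S.subtype hSC : Subgroup C) := by
        rw [← hc]
        exact ⟨⟨y, hgSC hy⟩, hy, rfl⟩
      exact this
    · intro s hs
      have : (⟨s, hSC hs⟩ : C) ∈ (S.subtype hSC : Subgroup C) := hs
      rw [← hc] at this
      obtain ⟨y, hy, e⟩ := this
      exact ⟨y, hy, congrArg Subtype.val e⟩
  refine ⟨(c : G) * g, Sylow.smul_eq_iff_mem_normalizer.mp (by rw [mul_smul]; exact hcS), ?_⟩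
  calc (c : G) * g * z * ((c : G) * g)⁻¹ = (c : G) * w * (c : G)⁻¹ := by rw [hw]; group
    _ = w := by rw [mem_centralizer_singleton_iff.mp c.2, mul_inv_cancel_right]

/-- A subgroup of `zInv S` invariant under the normaliser of `S` is strongly closed. -/
theorem stronglyClosed_of_invariant {S : Sylow 2 G} {T : Subgroup G} (hT : T ≤ zInv (S : Subgroup G))
    (hinv : ∀ n ∈ normalizer ((S : Subgroup G) : Set G), ∀ x ∈ T, n * x * n⁻¹ ∈ T) :
    Cfsg.IsStronglyClosed T (S : Subgroup G) := by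
  refine ⟨hT.trans (zInv_le _), fun x hx g hg => ?_⟩
  obtain ⟨-, n, hn, e⟩ := exists_conj_normalizer h (hT hx).1 (hT hx).2.2 hg
  exact e ▸ hinv n hn x hx

omit h in
theorem zInv_invariant (S : Sylow 2 G) {n : G} (hn : n ∈ normalizer ((S : Subgroup G) : Set G)) {x : G}
    (hx : x ∈ zInv (S : Subgroup G)) : n * x * n⁻¹ ∈ zInv (S : Subgroup G) := by
  refine ⟨(mem_normalizer_iff.mp hn x).mp hx.1, ?_, fun s hs => ?_⟩
  · rw [show n * x * n⁻¹ * (n * x * n⁻¹) = n * (x * x) * n⁻¹ by group, hx.2.1, mul_one, mul_inv_cancel]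
  · have hs' : n⁻¹ * s * n ∈ (S : Subgroup G) := (mem_normalizer_iff''.mp hn s).mp hs
    calc s * (n * x * n⁻¹) = n * (n⁻¹ * s * n * x) * n⁻¹ := by group
      _ = n * (x * (n⁻¹ * s * n)) * n⁻¹ := by rw [hx.2.2 _ hs']
      _ = n * x * n⁻¹ * s := by group

/-- No central involution of `S` is fixed by the normaliser in a non-abelian simple group. -/
theorem not_fixed [IsSimpleGroup G] (hna : ¬ IsMulCommutative G) {S : Sylow 2 G} {z : G}
    (hz : z ∈ zInv (S : Subgroup G)) (hz1 : z ≠ 1)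
    (hfix : ∀ n ∈ normalizer ((S : Subgroup G) : Set G), n * z = z * n) : False := by
  have hord : orderOf z = 2 := orderOf_eq_prime (by rw [pow_two]; exact hz.2.1) hz1
  obtain ⟨N, hN, hodd, hcomm⟩ := S0215.result S z hord hz.1 fun g hg => by
    obtain ⟨-, n, hn, e⟩ := exists_conj_normalizer h hz.1 hz.2.2 hg
    rw [← e, hfix n hn, mul_inv_cancel_right]
  rcases hN.eq_bot_or_eq_top with rfl | rfl
  · have hzc : z ∈ center G := mem_center_iff.mpr fun g => by
      have := mem_bot.mp (hcomm g)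
      rw [show z⁻¹ = z from inv_eq_of_mul_eq_one_right hz.2.1, mul_inv_eq_one] at this
      have hzz := hz.2.1
      calc g * z = z * g * z * z := by rw [this]
        _ = z * g * (z * z) := by group
        _ = z * g := by rw [hzz, mul_one]
    rcases (inferInstance : (center G).Normal).eq_bot_or_eq_top with e | e
    · exact hz1 (mem_bot.mp (e ▸ hzc))
    · exact hna ⟨⟨fun a b => (mem_center_iff.mp (e ▸ mem_top b : b ∈ center G) a)⟩⟩
  · rw [Subgroup.card_top] at hodd
    have h2 : 2 ∣ Nat.card G := hord ▸ orderOf_dvd_natCard z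
    exact (Nat.not_even_iff_odd.mpr hodd) (even_iff_two_dvd.mpr h2)

end Cfsg.Agent.H91.CI
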