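import Cfsg.Agent.H91.CI.Local
import Cfsg.Agent.H91.CI.Key

/-!
# The local theorem inside a simple group

The cores of the centralisers of the central involutions coincide, and the facts on the 2-core of such a
centraliser are restated in the whole group.
-/

set_option autoImplicit false
set_option linter.style.haveILetI false
set_option linter.unusedSectionVars false

namespace Cfsg.Agent.H91.CI

open Subgroup Cfsg.Agent
open scoped Pointwise commutatorElement IsMulCommutative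

universe u

variable {G : Type u} [Group G] [Finite G]

local instance fact_two_globalBasic : Fact (Nat.Prime 2) := ⟨Nat.prime_two⟩

/-- The odd core of `C(a)`, as a subgroup of `G`. -/
def oddCoreAt (a : G) : Subgroup G :=
  (Cfsg.oddCore ↥(centralizer ({a} : Set G))).map (centralizer ({a} : Set G)).subtype

/-- The 2-core of `C(a)`, as a subgroup of `G`. -/
def twoCoreAt (a : G) : Subgroup G :=
  (Cfsg.pCore 2 ↥(centralizer ({a} : Set G))).map (centralizer ({a} : Set G)).subtype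

theorem SEBelow.mono {m n : ℕ} (hmn : m ≤ n) (h : SEBelow.{u} n) : SEBelow.{u} m :=
  fun X _ _ hX => h X (hX.trans hmn)

theorem le_centralizer_singleton_of_zInv {S : Sylow 2 G} {v : G} (hv : v ∈ zInv (S : Subgroup G)) :
    (S : Subgroup G) ≤ centralizer ({v} : Set G) := fun s hs =>
  mem_centralizer_singleton_iff.mpr (hv.2.2 s hs)

theorem centralizer_ne_top_of_simple [IsSimpleGroup G] (hna : ¬ IsMulCommutative G) {v : G} (hv : v ≠ 1) :
    centralizer ({v} : Set G) ≠ ⊤ := by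
  intro e
  have hc : v ∈ center G := mem_center_iff.2 fun g =>
    mem_centralizer_singleton_iff.1 (show g ∈ centralizer ({v} : Set G) from e ▸ mem_top g)
  rcases (inferInstance : (center G).Normal).eq_bot_or_eq_top with e' | e'
  · exact hv (mem_bot.mp (e' ▸ hc))
  · exact hna ⟨⟨fun a b => (mem_center_iff.mp (e' ▸ mem_top b : b ∈ center G) a)⟩⟩

theorem card_centralizer_lt [IsSimpleGroup G] (hna : ¬ IsMulCommutative G) {v : G} (hv : v ≠ 1) :
    Nat.card ↥(centralizer ({v} : Set G)) < Nat.card G :=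
  (Subgroup.card_le_card_group _).lt_of_ne fun e =>
    centralizer_ne_top_of_simple hna hv ((Subgroup.card_eq_iff_eq_top _).1 e)

theorem subtype_not_comm {S : Sylow 2 G} (hS : ¬ IsMulCommutative ↥(S : Subgroup G)) {C : Subgroup G}
    (hle : (S : Subgroup G) ≤ C) : ¬ IsMulCommutative ↥((S.subtype hle : Sylow 2 ↥C) : Subgroup ↥C) :=
  fun hc => hS ⟨⟨fun a b => Subtype.ext (congrArg (fun z : ↥((S.subtype hle : Sylow 2 ↥C) : Subgroup ↥C) =>
    ((z : ↥C) : G)) (hc.is_comm.comm ⟨⟨a, hle a.2⟩, a.2⟩ ⟨⟨b, hle b.2⟩, b.2⟩))⟩⟩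

theorem centralizer_le_normalizer_oddCoreAt (a : G) :
    centralizer ({a} : Set G) ≤ normalizer (oddCoreAt a : Set G) :=
  Components.le_normalizer_of_normal_subgroupOf (map_subtype_le _) (by
    rw [oddCoreAt, subgroupOf, comap_map_eq_self_of_injective (subtype_injective _)]
    infer_instance)

theorem odd_card_oddCoreAt (a : G) : Odd (Nat.card ↥(oddCoreAt a)) := by
  rw [oddCoreAt, card_map_of_injective (subtype_injective _)]
  exact Cores.odd_card_oddCore

variable [IsSimpleGroup G] (h : CentralInter G) (hW : AbFacts.{u})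
  (hIH : ∀ m, m < Nat.card G → SEBelow.{u} m) (S : Sylow 2 G)
  (hS : ¬ IsMulCommutative ↥(S : Subgroup G))
include h hW hIH hS

omit hW hIH in
theorem oddCoreAt_le_centralizer {v : G} (hv : v ∈ zInv (S : Subgroup G)) :
    oddCoreAt v ≤ centralizer ((S : Subgroup G) : Set G) :=
  le_centralizer_of_odd h (not_comm_of_sylow_ne hS) hS _ (odd_card_oddCoreAt v)
    ((le_centralizer_singleton_of_zInv hv).trans (centralizer_le_normalizer_oddCoreAt v))

/-- The cores coincide. -/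
theorem oddCoreAt_le {v w : G} (hv : v ∈ zInv (S : Subgroup G)) (hw : w ∈ zInv (S : Subgroup G))
    (hw1 : w ≠ 1) : oddCoreAt v ≤ oddCoreAt w := by
  set C := centralizer ({w} : Set G) with hC
  have hSC : (S : Subgroup G) ≤ C := le_centralizer_singleton_of_zInv hw
  have hDC : oddCoreAt v ≤ C := fun x hx => mem_centralizer_singleton_iff.mpr
    (mem_centralizer_iff.mp (oddCoreAt_le_centralizer h S hS hv hx) w hw.1).symm
  set π := QuotientGroup.mk' (Cfsg.oddCore ↥C) with hπ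
  have hπs : Function.Surjective π := QuotientGroup.mk'_surjective _
  set SC := S.subtype hSC with hSCdef
  set SQ := SC.mapSurjective hπs with hSQ
  have hSQmem : ∀ x : ↥C, (x : G) ∈ (S : Subgroup G) → π x ∈ (SQ : Subgroup (↥C ⧸ Cfsg.oddCore ↥C)) := fun x hx => by
    rw [hSQ, Sylow.coe_mapSurjective]
    exact mem_map_of_mem π hx
  have hSQex : ∀ y ∈ (SQ : Subgroup (↥C ⧸ Cfsg.oddCore ↥C)), ∃ x : ↥C, (x : G) ∈ (S : Subgroup G) ∧ π x = y := fun y hy => by
    rw [hSQ, Sylow.coe_mapSurjective] at hy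
    obtain ⟨x, hx, rfl⟩ := hy
    exact ⟨x, hx, rfl⟩
  have hker : ∀ x : ↥C, (x : G) ∈ (S : Subgroup G) → π x = 1 → x = 1 := fun x hx h1 => by
    have hxO : x ∈ Cfsg.oddCore ↥C := (QuotientGroup.eq_one_iff x).mp h1
    obtain ⟨k, hk⟩ := exists_orderOf_pow hx
    exact orderOf_eq_one_iff.mp (Nat.eq_one_of_dvd_coprimes
      ((Nat.coprime_two_right.mpr (Cores.odd_card_oddCore (G := ↥C))).pow_right k)
      (Subgroup.orderOf_dvd_natCard _ hxO)
      (orderOf_dvd_of_pow_eq_one (Subtype.ext hk)))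
  have hSQna : ¬ IsMulCommutative ↥(SQ : Subgroup (↥C ⧸ Cfsg.oddCore ↥C)) := fun hc => by
    refine hS ⟨⟨fun a b => Subtype.ext ?_⟩⟩
    have h1 := congrArg Subtype.val
      (hc.is_comm.comm ⟨_, hSQmem ⟨a, hSC a.2⟩ a.2⟩ ⟨_, hSQmem ⟨b, hSC b.2⟩ b.2⟩)
    simp only [Subgroup.coe_mul] at h1
    have h2 := hker (⟨a, hSC a.2⟩ * ⟨b, hSC b.2⟩ * (⟨a, hSC a.2⟩)⁻¹ * (⟨b, hSC b.2⟩)⁻¹)
      (mul_mem (mul_mem (mul_mem a.2 b.2) (inv_mem a.2)) (inv_mem b.2))
      (by rw [map_mul, map_mul, map_mul, h1, map_inv, map_inv]; group)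
    show (a : G) * b = b * a
    have h3 : (a : G) * b * (a : G)⁻¹ * (b : G)⁻¹ = 1 := congrArg Subtype.val h2
    exact mul_inv_eq_iff_eq_mul.mp (mul_inv_eq_one.mp h3)
  set v' : ↥C := ⟨v, hSC hv.1⟩ with hv'
  have hvQ : π v' ∈ zInv (SQ : Subgroup (↥C ⧸ Cfsg.oddCore ↥C)) := by
    refine ⟨hSQmem v' hv.1, ?_, fun y hy => ?_⟩
    · rw [← map_mul, show v' * v' = 1 from Subtype.ext hv.2.1, map_one]
    · obtain ⟨x, hx, rfl⟩ := hSQex y hy
      rw [← map_mul, ← map_mul]
      exact congrArg π (Subtype.ext (hv.2.2 x hx))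
  set D : Subgroup ↥C := (oddCoreAt v).subgroupOf C with hD
  have hDo : Odd (Nat.card ↥(D.map π)) :=
    (Odd.of_dvd_nat (by rw [Nat.card_congr (subgroupOfEquivOfLe hDC).toEquiv]; exact odd_card_oddCoreAt v)
      (card_map_dvd _ π))
  have hDc : D.map π ≤ centralizer ((SQ : Subgroup (↥C ⧸ Cfsg.oddCore ↥C)) : Set (↥C ⧸ Cfsg.oddCore ↥C)) := by
    rintro _ ⟨d, hd, rfl⟩
    refine mem_centralizer_iff.mpr fun y hy => ?_
    obtain ⟨x, hx, rfl⟩ := hSQex y hy
    rw [← map_mul, ← map_mul]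
    exact congrArg π (Subtype.ext (mem_centralizer_iff.mp (oddCoreAt_le_centralizer h S hS hv hd) x hx))
  have hvN : centralizer ({π v'} : Set (↥C ⧸ Cfsg.oddCore ↥C)) ≤
      normalizer ((D.map π : Subgroup _) : Set (↥C ⧸ Cfsg.oddCore ↥C)) := by
    intro y hy
    obtain ⟨c, rfl⟩ := hπs y
    have hy' := mem_centralizer_singleton_iff.mp hy
    set o : ↥C := c * v' * c⁻¹ * v'⁻¹ with ho
    have hoO : o ∈ Cfsg.oddCore ↥C := (QuotientGroup.eq_one_iff o).mp (by
      show π o = 1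
      rw [ho, map_mul, map_mul, map_mul, hy', map_inv, map_inv]
      group)
    have hoc : Commute (o : G) v :=
      (mem_centralizer_iff.mp (oddCoreAt_le_centralizer h S hS hw (mem_map_of_mem _ hoO)) v hv.1).symm
    have hov : (o : G) * v = c * v * (c : G)⁻¹ := by
      show (c : G) * v * (c : G)⁻¹ * v⁻¹ * v = _
      group
    have hsq : (o : G) * o = 1 := by
      have e1 : ((o : G) * v) * ((o : G) * v) = 1 := by
        rw [hov, show (c : G) * v * (c : G)⁻¹ * ((c : G) * v * (c : G)⁻¹) = c * (v * v) * (c : G)⁻¹ by group,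
          hv.2.1, mul_one, mul_inv_cancel]
      calc (o : G) * o = (o : G) * o * (v * v) := by rw [hv.2.1, mul_one]
        _ = (o : G) * ((o : G) * v) * v := by group
        _ = (o : G) * (v * o) * v := by rw [hoc.eq]
        _ = ((o : G) * v) * ((o : G) * v) := by group
        _ = 1 := e1
    have ho1 : o = 1 := orderOf_eq_one_iff.mp (Nat.eq_one_of_dvd_coprimes
      (Nat.coprime_two_right.mpr (Cores.odd_card_oddCore (G := ↥C))) (Subgroup.orderOf_dvd_natCard _ hoO)
      (orderOf_dvd_of_pow_eq_one (by rw [pow_two]; exact Subtype.ext hsq)))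
    have hcv : (c : G) ∈ centralizer ({v} : Set G) := mem_centralizer_singleton_iff.mpr (by
      have := congrArg Subtype.val ho1
      change (c : G) * v * (c : G)⁻¹ * v⁻¹ = 1 at this
      exact mul_inv_eq_iff_eq_mul.mp (mul_inv_eq_one.mp this))
    refine le_normalizer_map π ⟨c, ?_, rfl⟩
    have hcN := centralizer_le_normalizer_oddCoreAt v hcv
    exact mem_normalizer_iff.mpr fun x => mem_normalizer_iff.mp hcN (x : G)
  have hbot := eq_bot_of_odd_invariant ((h.subgroup C).of_surjective hπs)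
    (Cores.pPrimeCore_quotient_pPrimeCore (p := 2) (G := ↥C))
    ((hIH _ (card_centralizer_lt (not_comm_of_sylow_ne hS) hw1)).mono
      (Nat.card_le_card_of_surjective π hπs)) hW SQ hSQna hvQ hDo hDc hvN
  rw [Subgroup.map_eq_bot_iff, hπ, QuotientGroup.ker_mk'] at hbot
  intro x hx
  exact ⟨⟨x, hDC hx⟩, hbot hx, rfl⟩

variable {v : G} (hv : v ∈ zInv (S : Subgroup G)) (hv1 : v ≠ 1) (hO : oddCoreAt v = ⊥)
include hv hv1 hO

omit hW hIH hv hv1 in
theorem oddCore_centralizer : Cfsg.oddCore ↥(centralizer ({v} : Set G)) = ⊥ := by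
  rw [oddCoreAt, Subgroup.map_eq_bot_iff_of_injective _ (subtype_injective _)] at hO
  exact hO

omit h hW hIH hS hv hv1 hO in
theorem twoCoreAt_le_centralizer_self (v : G) : twoCoreAt v ≤ centralizer ({v} : Set G) := map_subtype_le _

omit h hW hIH hS hO in
theorem mem_twoCoreAt_self : v ∈ twoCoreAt v := by
  set C := centralizer ({v} : Set G)
  have hvC : v ∈ C := mem_centralizer_singleton_iff.mpr rfl
  have hc : (⟨v, hvC⟩ : ↥C) ∈ center ↥C := mem_center_iff.mpr fun c =>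
    Subtype.ext (mem_centralizer_singleton_iff.mp c.2)
  haveI : (zpowers (⟨v, hvC⟩ : ↥C)).Normal := ⟨fun x hx g => by
    rwa [mem_center_iff.mp ((zpowers_le.mpr hc) hx) g, mul_inv_cancel_right]⟩
  exact ⟨⟨v, hvC⟩, Cores.le_pCore (isPGroup_zpowers (x := (⟨v, hvC⟩ : ↥C)) (k := 1)
    (Subtype.ext (by show v ^ 2 ^ 1 = 1; rw [pow_one, pow_two, hv.2.1]))) (mem_zpowers _), rfl⟩

omit hW hIH hv1 hO in
theorem twoCoreAt_le_sylow : twoCoreAt v ≤ (S : Subgroup G) := by
  rintro _ ⟨x, hx, rfl⟩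
  exact pCore_le_sylow (S.subtype (le_centralizer_singleton_of_zInv hv)) hx

variable {T₁ : Sylow 2 G} (hne : T₁ ≠ S) (hT₁ : (T₁ : Subgroup G) ≤ centralizer ({v} : Set G))
include hne hT₁

theorem exists_ne_subtype :
    ∃ T' : Sylow 2 ↥(centralizer ({v} : Set G)), T' ≠ S.subtype (le_centralizer_singleton_of_zInv hv) := by
  exact ⟨T₁.subtype hT₁, fun e => hne (Sylow.subtype_injective e)⟩

/-- Sylow 2-subgroups in `C(v)` centralise its 2-core. -/
theorem le_centralizer_twoCoreAt {T : Sylow 2 G} (hT : (T : Subgroup G) ≤ centralizer ({v} : Set G)) :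
    (T : Subgroup G) ≤ centralizer (twoCoreAt v : Set G) := by
  intro t ht
  refine mem_centralizer_iff.mpr ?_
  rintro _ ⟨r, hr, rfl⟩
  exact congrArg Subtype.val (mem_centralizer_iff.mp (sylow_le_centralizer_pCore (h.subgroup _)
    (exists_ne_subtype h hW hIH S hS hv hv1 hO hne hT₁) (T.subtype hT) (show (⟨t, hT ht⟩ : ↥(centralizer ({v} : Set G))) ∈ _ from ht)) r hr)

/-- A central involution centralised by two Sylow 2-subgroups of `C(v)` lies in its 2-core. -/
theorem mem_twoCoreAt_of_second {a : G} (ha : a ∈ zInv (S : Subgroup G)) {T : Sylow 2 G} (hTne : T ≠ S)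
    (hT : (T : Subgroup G) ≤ centralizer ({v} : Set G)) (hTa : (T : Subgroup G) ≤ centralizer ({a} : Set G)) :
    a ∈ twoCoreAt v := by
  set C := centralizer ({v} : Set G)
  have hSC : (S : Subgroup G) ≤ C := le_centralizer_singleton_of_zInv hv
  refine ⟨⟨a, hSC ha.1⟩, mem_pCore_of_second (h.subgroup C) (oddCore_centralizer h S hS hO)
    (hIH _ (card_centralizer_lt (not_comm_of_sylow_ne hS) hv1)) hW (S.subtype hSC) (subtype_not_comm hS hSC)
    (a := ⟨a, hSC ha.1⟩) ⟨ha.1, Subtype.ext ha.2.1, fun s hs => Subtype.ext (ha.2.2 s hs)⟩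
    (T := T.subtype hT) (fun e => hTne (Sylow.subtype_injective e)) ?_, rfl⟩
  intro t ht
  exact mem_centralizer_singleton_iff.mpr (Subtype.ext (mem_centralizer_singleton_iff.mp (hTa ht)))

/-- The dichotomy, in `G`. -/
theorem twoCoreAt_split :
    zInv (S : Subgroup G) ≤ twoCoreAt v ∨
      ((∀ a ∈ zInv (S : Subgroup G), (∀ n ∈ normalizer ((S : Subgroup G) : Set G),
          n ∈ centralizer (twoCoreAt v : Set G) → n * a = a * n) → a ∈ twoCoreAt v) ∧
        (∀ a ∈ zInv (S : Subgroup G), ∀ n ∈ normalizer ((S : Subgroup G) : Set G),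
          n ∈ centralizer (twoCoreAt v : Set G) →
            n * a * n⁻¹ * a⁻¹ ∈ ⁅(S : Subgroup G), (S : Subgroup G)⁆) ∧
        twoCoreAt v ⊓ ⁅(S : Subgroup G), (S : Subgroup G)⁆ = ⊥) := by
  set C := centralizer ({v} : Set G) with hC
  have hSC : (S : Subgroup G) ≤ C := le_centralizer_singleton_of_zInv hv
  set SC := S.subtype hSC with hSCdef
  have hzmem : ∀ {a : G} (ha : a ∈ zInv (S : Subgroup G)), (⟨a, hSC ha.1⟩ : ↥C) ∈ zInv (SC : Subgroup ↥C) :=
    fun ha => ⟨ha.1, Subtype.ext ha.2.1, fun s hs => Subtype.ext (ha.2.2 s hs)⟩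
  have hnC : ∀ {n : G}, n ∈ centralizer (twoCoreAt v : Set G) → n ∈ C := fun {n} hn =>
    mem_centralizer_singleton_iff.mpr (mem_centralizer_iff.mp hn v (mem_twoCoreAt_self S hv hv1)).symm
  have hNmem : ∀ {n : G} (hn : n ∈ C), n ∈ normalizer ((S : Subgroup G) : Set G) →
      (⟨n, hn⟩ : ↥C) ∈ normalizer ((SC : Subgroup ↥C) : Set ↥C) := fun hn hnS =>
    mem_normalizer_iff.mpr fun x => mem_normalizer_iff.mp hnS (x : G)
  have hRmem : ∀ {n : G} (hn : n ∈ C), n ∈ centralizer (twoCoreAt v : Set G) →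
      (⟨n, hn⟩ : ↥C) ∈ centralizer (Cfsg.pCore 2 ↥C : Set ↥C) := fun hn hnR =>
    mem_centralizer_iff.mpr fun r hr => Subtype.ext (mem_centralizer_iff.mp hnR r ⟨r, hr, rfl⟩)
  have hder : (⁅(SC : Subgroup ↥C), (SC : Subgroup ↥C)⁆).map C.subtype = ⁅(S : Subgroup G), (S : Subgroup G)⁆ := by
    rw [map_commutator, hSCdef, Sylow.coe_subtype, subgroupOf_map_subtype, inf_eq_left.mpr hSC]
  rcases zInv_split (h.subgroup C) (oddCore_centralizer h S hS hO)
    (hIH _ (card_centralizer_lt (not_comm_of_sylow_ne hS) hv1)) hW SC (subtype_not_comm hS hSC)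
    (exists_ne_subtype h hW hIH S hS hv hv1 hO hne hT₁) with hle | ⟨hfix, hcom, hbot⟩
  · exact Or.inl fun a ha => ⟨_, hle (hzmem ha), rfl⟩
  refine Or.inr ⟨fun a ha hcomm => ⟨_, hfix _ (hzmem ha) fun n hn hnR => Subtype.ext ?_, rfl⟩,
    fun a ha n hn hnR => ?_, ?_⟩
  · refine hcomm n ?_ ?_
    · have hh : ∀ x ∈ (S : Subgroup G), (n : G) * x * (n : G)⁻¹ ∈ (S : Subgroup G) := fun x hx =>
        (mem_normalizer_iff.mp hn ⟨x, hSC hx⟩).mp hx
      refine mem_normalizer_iff.mpr fun x => ⟨hh x, fun hx => ?_⟩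
      have := (mem_normalizer_iff.mp (inv_mem hn) ⟨_, hSC hx⟩).mp hx
      change (n : G)⁻¹ * ((n : G) * x * (n : G)⁻¹) * (n : G)⁻¹⁻¹ ∈ (S : Subgroup G) at this
      rwa [show (n : G)⁻¹ * ((n : G) * x * (n : G)⁻¹) * (n : G)⁻¹⁻¹ = x by group] at this
    · refine mem_centralizer_iff.mpr ?_
      rintro _ ⟨r, hr, rfl⟩
      exact congrArg Subtype.val (mem_centralizer_iff.mp hnR r hr)
  · rw [← hder]
    exact ⟨_, hcom _ (hzmem ha) ⟨n, hnC hnR⟩ (hNmem _ hn) (hRmem _ hnR), rfl⟩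
  · rw [← hder, twoCoreAt, ← map_inf _ _ _ (subtype_injective _), hbot, Subgroup.map_bot]

end Cfsg.Agent.H91.CI
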