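import Cfsg.Agent.H91.CI.LocalSplit

/-!
# Core-free groups with central Sylow 2-intersections: the facts used for the global argument

`R` is the 2-core. A central involution outside `R` is centralised by no other Sylow 2-subgroup; odd subgroups
centralised by `S` and normalised by the centraliser of a central involution are trivial; and either `zInv S`
lies in `R`, or its fixed points under the normaliser of `S` in the centraliser of `R` lie in `R` while that
normaliser only moves it inside the derived subgroup of `S`, which meets `R` trivially.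
-/

set_option autoImplicit false
set_option linter.style.haveILetI false
set_option linter.unusedSectionVars false

namespace Cfsg.Agent.H91.CI

open Subgroup Cfsg.Agent
open scoped Pointwise commutatorElement IsMulCommutative
open Cfsg.Agent.H76.PostBender (SylTrans)

universe u

variable {H : Type u} [Group H] [Finite H]

local instance fact_two_localMain : Fact (Nat.Prime 2) := ⟨Nat.prime_two⟩

theorem center_le_sylow (hO : Cfsg.oddCore H = ⊥) {K : Subgroup H} (hK : Cfsg.IsComponent K) (P : Sylow 2 ↥K) :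
    center ↥K ≤ (P : Subgroup ↥K) := fun x hx => by
  obtain ⟨k, hk⟩ := (show IsPGroup 2 ↥(Cfsg.pCore 2 H) from Components.isPGroup_pCore 2)
    ⟨x, center_component_le hO hK x.2 fun l hl => congrArg Subtype.val (mem_center_iff.mp hx ⟨l, hl⟩)⟩
  exact mem_of_commutes (Subtype.ext (congrArg Subtype.val hk : (x : H) ^ 2 ^ k = 1))
    fun t _ => mem_center_iff.mp hx t

variable (h : CentralInter H) (hO : Cfsg.oddCore H = ⊥) (hIH : SEBelow.{u} (Nat.card H)) (hW : AbFacts.{u})
  (S : Sylow 2 H) (hS : ¬ IsMulCommutative ↥(S : Subgroup H))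
include h hO hIH hW hS

/-- A central involution centralised by a second Sylow 2-subgroup lies in the 2-core. -/
theorem mem_pCore_of_second {a : H} (ha : a ∈ zInv (S : Subgroup H)) {T : Sylow 2 H} (hne : T ≠ S)
    (hT : (T : Subgroup H) ≤ centralizer ({a} : Set H)) : a ∈ Cfsg.pCore 2 H := by
  obtain ⟨K, hK⟩ := exists_component h hO ⟨T, hne⟩
  haveI := component_normal h hO hS ⟨T, hne⟩ hK
  by_cases hab : AbModCenter S K
  · exact zInv_le_pCore_of_ab h hO S hS ⟨T, hne⟩ hK hW hab ha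
  obtain ⟨hB, -⟩ := benderFacts_of_not_ab h hO S hS ⟨T, hne⟩ hK hIH hab
  have haT : a ∈ (T : Subgroup H) := mem_of_commutes (k := 1) (by rw [pow_one, pow_two, ha.2.1])
    fun t ht => mem_centralizer_singleton_iff.mp (hT ht)
  obtain ⟨q, hqS, hqK, hr⟩ := exists_mul_pCore h hO S hS ⟨T, hne⟩ hK hB.trans ha.1
  have hqT : q ∈ (T : Subgroup H) := by
    have := mul_mem haT (inv_mem (pCore_le_sylow T hr))
    rwa [show a * (q⁻¹ * a)⁻¹ = q by group] at this
  have hTK : (T : Subgroup H) ⊓ K ≠ (S : Subgroup H) ⊓ K := by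
    intro e
    refine hne (Sylow.ext ?_)
    refine (T.3 S.isPGroup' ?_).symm
    intro t ht
    obtain ⟨q', hq'T, hq'K, hr'⟩ := exists_mul_pCore h hO T (not_comm_of_sylow hS T) ⟨S, hne.symm⟩ hK hB.trans ht
    have h1 : q' ∈ (S : Subgroup H) := (e ▸ (show q' ∈ (T : Subgroup H) ⊓ K from ⟨hq'T, hq'K⟩) :
      q' ∈ (S : Subgroup H) ⊓ K).1
    have := mul_mem h1 (pCore_le_sylow S hr')
    rwa [mul_inv_cancel_left] at this
  obtain ⟨P, hP⟩ := exists_sylow_component hK S
  obtain ⟨P₁, hP₁⟩ := exists_sylow_component hK T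
  set π := QuotientGroup.mk' (center ↥K) with hπ
  have hπs : Function.Surjective π := QuotientGroup.mk'_surjective _
  have hdiff : P.mapSurjective hπs ≠ P₁.mapSurjective hπs := by
    intro e
    have e' := congrArg (fun U : Sylow 2 (↥K ⧸ center ↥K) => (U : Subgroup (↥K ⧸ center ↥K)).comap π) e
    simp only [Sylow.coe_mapSurjective, comap_map_eq, hπ, QuotientGroup.ker_mk'] at e'
    rw [sup_eq_left.mpr (center_le_sylow hO hK P), sup_eq_left.mpr (center_le_sylow hO hK P₁), hP, hP₁] at e'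
    exact hTK (subgroupOf_inj.mp e').symm
  have hq1 : π ⟨q, hqK⟩ = 1 := by
    rw [← mem_bot, ← hB.ti _ _ hdiff]
    rw [Sylow.coe_mapSurjective, Sylow.coe_mapSurjective, mem_inf]
    exact ⟨mem_map_of_mem π (by rw [hP]; exact hqS), mem_map_of_mem π (by rw [hP₁]; exact hqT)⟩
  have hqR : q ∈ Cfsg.pCore 2 H := center_component_le hO hK hqK fun l hl =>
    congrArg Subtype.val (mem_center_iff.mp ((QuotientGroup.eq_one_iff _).mp hq1) ⟨l, hl⟩)
  have := mul_mem hqR hr
  rwa [mul_inv_cancel_left] at this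

/-- Odd subgroups centralised by `S` and normalised by a central involution centraliser are trivial. -/
theorem eq_bot_of_odd_invariant {v : H} (hv : v ∈ zInv (S : Subgroup H)) {D : Subgroup H}
    (hD : Odd (Nat.card D)) (hDS : D ≤ centralizer ((S : Subgroup H) : Set H))
    (hvD : centralizer ({v} : Set H) ≤ normalizer (D : Set H)) : D = ⊥ := by
  refine le_bot_iff.mp fun d hd => mem_bot.mpr ?_
  have hdo : Odd (orderOf d) := hD.of_dvd_nat (D.orderOf_dvd_natCard hd)
  suffices hdR : d ∈ Cfsg.pCore 2 H by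
    obtain ⟨k, hk⟩ := (show IsPGroup 2 ↥(Cfsg.pCore 2 H) from Components.isPGroup_pCore 2) ⟨d, hdR⟩
    exact orderOf_eq_one_iff.mp (Nat.eq_one_of_dvd_coprimes
      ((Nat.coprime_two_right.mpr hdo).pow_right k) dvd_rfl
      (orderOf_dvd_of_pow_eq_one (congrArg Subtype.val hk)))
  have hdR' : d ∈ centralizer (Cfsg.pCore 2 H : Set H) := mem_centralizer_iff.mpr fun r hr =>
    mem_centralizer_iff.mp (hDS hd) r (pCore_le_sylow S hr)
  by_cases hall : ∀ T : Sylow 2 H, T = S
  · exact centralizer_pCore_le_of_no_component hO (no_component hO hall) hdR'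
  push Not at hall
  obtain ⟨K, hK⟩ := exists_component h hO hall
  haveI := component_normal h hO hS hall hK
  refine mem_pCore_of_component h hO S hS hall hK ?_ hdR'
  by_cases hvR : v ∈ Cfsg.pCore 2 H
  · have hKv : K ≤ centralizer ({v} : Set H) := fun k hk => mem_centralizer_singleton_iff.mpr
      (Components.commute_of_commutator_eq_bot (Components.component_commutator_fitting hK) hk
        (Components.pCore_le_fitting 2 hvR))
    haveI : (D.subgroupOf K).Normal :=
      normal_subgroupOf_iff_le_normalizer_inf.mpr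
        ((le_inf (hKv.trans hvD) le_normalizer).trans inf_normalizer_le_normalizer_inf)
    refine mem_centralizer_of_commutator_center (Components.component_perfect hK) fun k hk => ?_
    have hmemK : d * k * d⁻¹ * k⁻¹ ∈ K := K.mul_mem (Normal.conj_mem inferInstance k hk d) (K.inv_mem hk)
    refine ⟨hmemK, ?_⟩
    have hmemD : d * k * d⁻¹ * k⁻¹ ∈ D := by
      have := (mem_normalizer_iff.mp (hvD (hKv hk)) d⁻¹).mp (inv_mem hd)
      rw [show d * k * d⁻¹ * k⁻¹ = d * (k * d⁻¹ * k⁻¹) by group]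
      exact D.mul_mem hd this
    have hne : D.subgroupOf K ≠ ⊤ := fun e => by
      have h2 : 2 ∣ Nat.card ↥D := (Components.dvd_card_component (p := 2) hO hK).trans
        (card_dvd_of_le (subgroupOf_eq_top.mp e))
      exact hD.not_two_dvd_nat h2
    have hc := Components.qs_normal_le_center hK.2 _ hne
      (show (⟨_, hmemK⟩ : ↥K) ∈ D.subgroupOf K from hmemD)
    exact fun l hl => congrArg Subtype.val (mem_center_iff.mp hc ⟨l, hl⟩)
  · by_cases hab : AbModCenter S K
    · exact absurd (zInv_le_pCore_of_ab h hO S hS hall hK hW hab hv) hvR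
    · obtain ⟨hB, -⟩ := benderFacts_of_not_ab h hO S hS hall hK hIH hab
      exact mem_centralizer_of_odd hO hK hB.trans S hdo (hDS hd)

/-- The dichotomy for the central involutions. -/
theorem zInv_split (hnn : ∃ T : Sylow 2 H, T ≠ S) :
    zInv (S : Subgroup H) ≤ Cfsg.pCore 2 H ∨
      ((∀ a ∈ zInv (S : Subgroup H), (∀ n ∈ normalizer ((S : Subgroup H) : Set H),
          n ∈ centralizer (Cfsg.pCore 2 H : Set H) → n * a = a * n) → a ∈ Cfsg.pCore 2 H) ∧
        (∀ a ∈ zInv (S : Subgroup H), ∀ n ∈ normalizer ((S : Subgroup H) : Set H),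
          n ∈ centralizer (Cfsg.pCore 2 H : Set H) →
            n * a * n⁻¹ * a⁻¹ ∈ ⁅(S : Subgroup H), (S : Subgroup H)⁆) ∧
        Cfsg.pCore 2 H ⊓ ⁅(S : Subgroup H), (S : Subgroup H)⁆ = ⊥) := by
  by_cases hle : zInv (S : Subgroup H) ≤ Cfsg.pCore 2 H
  · exact Or.inl hle
  refine Or.inr ?_
  obtain ⟨a₀, ha₀, ha₀R⟩ := SetLike.not_le_iff_exists.mp hle
  obtain ⟨K, hK⟩ := exists_component h hO hnn
  haveI := component_normal h hO hS hnn hK
  haveI := component_perfect_inst hK
  by_cases hab : AbModCenter S K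
  · exact absurd (zInv_le_pCore_of_ab h hO S hS hnn hK hW hab) hle
  obtain ⟨hB, hna⟩ := benderFacts_of_not_ab h hO S hS hnn hK hIH hab
  haveI : IsSimpleGroup (↥K ⧸ center ↥K) := hK.2.2
  obtain ⟨P, hP⟩ := exists_sylow_component hK S
  set R := Cfsg.pCore 2 H with hR
  have hRC : ∀ r ∈ R, ∀ s ∈ (S : Subgroup H), Commute s r := fun r hr s hs =>
    (mem_centralizer_iff.mp (sylow_le_centralizer_pCore h hnn S hs) r hr).symm
  have hKR : ∀ r ∈ R, ∀ k ∈ K, Commute k r := fun r hr k hk =>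
    Components.commute_of_commutator_eq_bot (Components.component_commutator_fitting hK) hk
      (Components.pCore_le_fitting 2 hr)
  have hdec := fun {f : H} (hf : f ∈ (S : Subgroup H)) => exists_mul_pCore h hO S hS hnn hK hB.trans hf
  -- the component of a central involution
  have hparts : ∀ a ∈ zInv (S : Subgroup H), ∃ q ∈ (S : Subgroup H), q ∈ K ∧ q⁻¹ * a ∈ R ∧
      (∀ s ∈ (S : Subgroup H), Commute s q) ∧ q * q ∈ R := by
    intro a ha
    obtain ⟨q, hqS, hqK, hr⟩ := hdec ha.1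
    have hqc : ∀ s ∈ (S : Subgroup H), Commute s q := fun s hs => by
      have h1 : Commute s a := ha.2.2 s hs
      have := h1.mul_right (hRC _ hr s hs).inv_right
      rwa [show a * (q⁻¹ * a)⁻¹ = q by group] at this
    refine ⟨q, hqS, hqK, hr, hqc, ?_⟩
    have h2 : (q⁻¹ * a) * (q⁻¹ * a) = (q * q)⁻¹ := by
      calc (q⁻¹ * a) * (q⁻¹ * a) = q⁻¹ * (a * q⁻¹) * a := by group
        _ = q⁻¹ * (q⁻¹ * a) * a := by rw [((hqc a ha.1).inv_right).eq]
        _ = q⁻¹ * q⁻¹ * (a * a) := by group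
        _ = (q * q)⁻¹ := by rw [ha.2.1, mul_one, mul_inv_rev]
    simpa [h2] using inv_mem (mul_mem hr hr)
  have hZ : center ↥K = ⊥ := by
    obtain ⟨q, hqS, hqK, hr, hqc, hq2⟩ := hparts a₀ ha₀
    refine center_eq_bot (h.subgroup K) hB ?_ P (hna P hP) (q := ⟨q, hqK⟩) (by rw [hP]; exact hqS) ?_ ?_ ?_
    · exact (show IsPGroup 2 ↥(center ↥K) from fun x => by
        obtain ⟨k, hk⟩ := (show IsPGroup 2 ↥R from Components.isPGroup_pCore 2)
          ⟨_, center_component_le hO hK x.1.2 fun l hl => congrArg Subtype.val (mem_center_iff.mp x.2 ⟨l, hl⟩)⟩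
        exact ⟨k, Subtype.ext (Subtype.ext (congrArg Subtype.val hk : ((x : ↥K) : H) ^ 2 ^ k = 1))⟩)
    · intro hc
      refine ha₀R ?_
      have := mul_mem (center_component_le hO hK hqK fun l hl =>
        congrArg Subtype.val (mem_center_iff.mp hc ⟨l, hl⟩)) hr
      rwa [mul_inv_cancel_left] at this
    · exact mem_center_iff.mpr fun l => Subtype.ext (hKR _ hq2 l l.2).eq
    · intro s hs
      rw [hP] at hs
      exact Subtype.ext (hqc s hs).eq
  have hRK : ∀ x ∈ R, x ∈ K → x = 1 := fun x hx hxK => by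
    have : (⟨x, hxK⟩ : ↥K) ∈ center ↥K := mem_center_iff.mpr fun l => Subtype.ext (hKR x hx l l.2).eq
    rw [hZ, mem_bot] at this
    exact congrArg Subtype.val this
  haveI : Nontrivial ↥K := Components.qs_nontrivial hK.2
  haveI hKsimp : IsSimpleGroup ↥K := ⟨fun N _ => by
    by_cases e : N = ⊤
    · exact Or.inr e
    · exact Or.inl (le_bot_iff.mp ((Components.qs_normal_le_center hK.2 N e).trans hZ.le))⟩
  have hPna : ¬ IsMulCommutative ↥(P : Subgroup ↥K) := fun hc => hab fun a ha haK b hb hbK l _ => by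
    have hmem : ∀ {x : H} (hxK : x ∈ K), x ∈ (S : Subgroup H) → (⟨x, hxK⟩ : ↥K) ∈ (P : Subgroup ↥K) :=
      fun hxK hx => by rw [hP]; exact hx
    have h1 : a * b = b * a := congrArg (fun z : ↥(P : Subgroup ↥K) => ((z : ↥K) : H))
      (hc.is_comm.comm ⟨_, hmem haK ha⟩ ⟨_, hmem hbK hb⟩)
    rw [h1]
    simp
  obtain ⟨M, hM⟩ := hIH ↥K K.card_le_card_group hKsimp (h.subgroup K) P hPna
  have hBK := benderFacts P hPna M hM
  -- involutions of the part in `K` are commutators
  have hinv : ∀ x ∈ (S : Subgroup H), x ∈ K → x * x = 1 → x ∈ ⁅(S : Subgroup H), (S : Subgroup H)⁆ := by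
    intro x hxS hxK hxx
    by_cases hx1 : x = 1
    · rw [hx1]; exact one_mem _
    set D := ⁅(P : Subgroup ↥K), (P : Subgroup ↥K)⁆ with hD
    have hDle : D ≤ (P : Subgroup ↥K) := commutator_le_self _
    have hDne : D ≠ ⊥ := fun e => hPna ⟨⟨fun a b => Subtype.ext
      (mem_centralizer_iff.mp (commutator_eq_bot_iff_le_centralizer.mp e b.2) a a.2)⟩⟩
    haveI : Nontrivial ↥D := (nontrivial_iff_ne_bot D).mpr hDne
    obtain ⟨n, hn, hcard⟩ := (P.isPGroup'.to_le hDle).nontrivial_iff_card.mp inferInstance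
    obtain ⟨w, hw⟩ := exists_prime_orderOf_dvd_card' (G := ↥D) 2 (hcard ▸ dvd_pow_self 2 hn.ne')
    obtain ⟨m, hm, em⟩ := hBK.conj P (w : ↥K) (hDle w.2) ⟨x, hxK⟩ (by rw [hP]; exact hxS)
      (by rw [Subgroup.orderOf_coe, hw])
      (orderOf_eq_prime (by rw [pow_two]; exact Subtype.ext hxx) fun e => hx1 (congrArg Subtype.val e))
    have hmD : (⟨x, hxK⟩ : ↥K) ∈ D := by
      rw [← em]
      have hN : m ∈ normalizer (D : Set ↥K) := by
        rw [mem_normalizer_iff_map_conj_eq, hD, map_commutator]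
        exact congrArg₂ (fun A B : Subgroup ↥K => ⁅A, B⁆) (mem_normalizer_iff_map_conj_eq.mp hm)
          (mem_normalizer_iff_map_conj_eq.mp hm)
      exact (mem_normalizer_iff.mp hN _).mp w.2
    have hmap : D.map K.subtype ≤ ⁅(S : Subgroup H), (S : Subgroup H)⁆ := by
      rw [hD, map_commutator, hP, subgroupOf_map_subtype]
      exact commutator_mono inf_le_left inf_le_left
    exact hmap ⟨_, hmD, rfl⟩
  refine ⟨fun a ha hfix => ?_, fun a ha n hn hnR => ?_, ?_⟩
  · by_contra haR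
    obtain ⟨q, hqS, hqK, hr, hqc, hq2⟩ := hparts a ha
    have hq1 : (⟨q, hqK⟩ : ↥K) ≠ 1 := fun e => haR (by
      have e' : q = 1 := congrArg Subtype.val e
      simpa [e'] using hr)
    refine not_fixed (h.subgroup K) (fun hc => hPna ⟨⟨fun a b => Subtype.ext (hc.is_comm.comm a.1 b.1)⟩⟩)
      (S := P) (z := ⟨q, hqK⟩) ⟨by rw [hP]; exact hqS, Subtype.ext (hRK _ hq2 (K.mul_mem hqK hqK)),
        fun s hs => Subtype.ext (hqc s (by rw [hP] at hs; exact hs)).eq⟩ hq1 fun n hn => ?_
    have hmap : ∀ m ∈ normalizer ((P : Subgroup ↥K) : Set ↥K), ∀ s ∈ (S : Subgroup H),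
        (m : H) * s * (m : H)⁻¹ ∈ (S : Subgroup H) := by
      intro m hm s hs
      obtain ⟨q', hq'S, hq'K, hr'⟩ := hdec hs
      have h1 : (⟨q', hq'K⟩ : ↥K) ∈ (P : Subgroup ↥K) := by rw [hP]; exact hq'S
      have h2 := (mem_normalizer_iff.mp hm _).mp h1
      rw [hP, mem_subgroupOf] at h2
      have e : (m : H) * s * (m : H)⁻¹ = (m : H) * q' * (m : H)⁻¹ * (q'⁻¹ * s) := by
        calc (m : H) * s * (m : H)⁻¹ = (m : H) * q' * ((q'⁻¹ * s) * (m : H)⁻¹) := by group
          _ = (m : H) * q' * ((m : H)⁻¹ * (q'⁻¹ * s)) := by rw [((hKR _ hr' m m.2).inv_left).eq]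
          _ = _ := by group
      rw [e]
      exact mul_mem h2 (pCore_le_sylow S hr')
    have hnS : (n : H) ∈ normalizer ((S : Subgroup H) : Set H) := by
      refine mem_normalizer_iff.mpr fun s => ⟨hmap n hn s, fun hs => ?_⟩
      have := hmap n⁻¹ (inv_mem hn) _ hs
      rwa [Subgroup.coe_inv, show (n : H)⁻¹ * ((n : H) * s * (n : H)⁻¹) * (n : H)⁻¹⁻¹ = s by group] at this
    have hnR : (n : H) ∈ centralizer (R : Set H) :=
      mem_centralizer_iff.mpr fun r hr => (hKR r hr n n.2).eq.symm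
    have h1 : Commute (n : H) a := hfix n hnS hnR
    have h2 := h1.mul_right (hKR _ hr n n.2).inv_right
    rw [show a * (q⁻¹ * a)⁻¹ = q by group] at h2
    exact Subtype.ext h2.eq
  · obtain ⟨q, hqS, hqK, hr, hqc, hq2⟩ := hparts a ha
    have hqq : q * q = 1 := hRK _ hq2 (K.mul_mem hqK hqK)
    have hnr : n * (q⁻¹ * a) = q⁻¹ * a * n := (mem_centralizer_iff.mp hnR _ hr).symm
    have e : n * a * n⁻¹ * a⁻¹ = (n * q * n⁻¹) * q⁻¹ := by
      calc n * a * n⁻¹ * a⁻¹ = n * q * n⁻¹ * (n * (q⁻¹ * a)) * n⁻¹ * a⁻¹ := by group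
        _ = n * q * n⁻¹ * (q⁻¹ * a * n) * n⁻¹ * a⁻¹ := by rw [hnr]
        _ = _ := by group
    rw [e]
    refine mul_mem (hinv _ ((mem_normalizer_iff.mp hn q).mp hqS) (Normal.conj_mem inferInstance q hqK n) ?_)
      (inv_mem (hinv q hqS hqK hqq))
    rw [show n * q * n⁻¹ * (n * q * n⁻¹) = n * (q * q) * n⁻¹ by group, hqq, mul_one, mul_inv_cancel]
  · refine le_bot_iff.mp fun x ⟨hxR, hxD⟩ => mem_bot.mpr (hRK x hxR ?_)
    refine (show ⁅(S : Subgroup H), (S : Subgroup H)⁆ ≤ K from commutator_le.mpr fun s hs t ht => ?_) hxD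
    obtain ⟨q, hqS, hqK, hr⟩ := hdec hs
    obtain ⟨q', hq'S, hq'K, hr'⟩ := hdec ht
    obtain ⟨r, hrR, rfl⟩ : ∃ r ∈ R, s = q * r := ⟨_, hr, (mul_inv_cancel_left q s).symm⟩
    simp only [inv_mul_cancel_left] at hr
    obtain ⟨r', hr'R, rfl⟩ : ∃ r' ∈ R, t = q' * r' := ⟨_, hr', (mul_inv_cancel_left q' t).symm⟩
    simp only [inv_mul_cancel_left] at hr'
    have e : ⁅q * r, q' * r'⁆ = ⁅q, q'⁆ := by
      have c1 : Commute q r' := hRC _ hr' q hqS
      have c2 : Commute q' r := hRC _ hr q' hq'S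
      have c3 : Commute r r' := hRC _ hr' r (pCore_le_sylow S hr)
      have c4 : Commute q r := hRC _ hr q hqS
      have c5 : Commute q' r' := hRC _ hr' q' hq'S
      rw [commutatorElement_def, commutatorElement_def, mul_inv_rev, mul_inv_rev]
      calc q * r * (q' * r') * (r⁻¹ * q⁻¹) * (r'⁻¹ * q'⁻¹)
          = q * (r * q') * r' * r⁻¹ * (q⁻¹ * r'⁻¹) * q'⁻¹ := by group
        _ = q * (q' * r) * r' * r⁻¹ * (r'⁻¹ * q⁻¹) * q'⁻¹ := by rw [c2.eq, c1.inv_inv.eq]
        _ = q * q' * (r * r') * r⁻¹ * r'⁻¹ * q⁻¹ * q'⁻¹ := by group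
        _ = q * q' * (r' * r) * r⁻¹ * r'⁻¹ * q⁻¹ * q'⁻¹ := by rw [c3.eq]
        _ = _ := by group
    rw [e]
    exact K.mul_mem (K.mul_mem (K.mul_mem hqK hq'K) (K.inv_mem hqK)) (K.inv_mem hq'K)

end Cfsg.Agent.H91.CI
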