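import Cfsg.Agent.H91.CI.Comp
import Cfsg.Agent.H91.CI.Bender

/-!
# Core-free groups with central Sylow 2-intersections: the component

If a Sylow 2-subgroup is nonabelian and not normal there is exactly one component; the Sylow 2-subgroups
centralise the 2-core.
-/

set_option autoImplicit false
set_option linter.style.haveILetI false
set_option linter.unusedSectionVars false

namespace Cfsg.Agent.H91.CI

open Subgroup Cfsg.Agent
open scoped Pointwise commutatorElement IsMulCommutative

universe u

variable {H : Type u} [Group H] [Finite H]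

local instance fact_two_local : Fact (Nat.Prime 2) := ⟨Nat.prime_two⟩

/-- Simple groups of order at most `n` with central intersections and non-abelian Sylow 2-subgroups
have a strongly embedded subgroup. -/
def SEBelow (n : ℕ) : Prop :=
  ∀ (X : Type u) [Group X] [Finite X], Nat.card X ≤ n → IsSimpleGroup X → CentralInter X →
    ∀ S : Sylow 2 X, ¬ IsMulCommutative ↥(S : Subgroup X) → ∃ K : Subgroup X, Cfsg.IsStronglyEmbedded K

/-- In simple groups the normaliser of an abelian Sylow 2-subgroup is transitive on its non-identity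
elements. -/
def AbFacts : Prop :=
  ∀ (X : Type u) [Group X] [Finite X], IsSimpleGroup X → ¬ IsMulCommutative X →
    ∀ P : Sylow 2 X, IsMulCommutative ↥(P : Subgroup X) →
      ∀ x ∈ (P : Subgroup X), ∀ y ∈ (P : Subgroup X), x ≠ 1 → y ≠ 1 →
        ∃ n ∈ normalizer ((P : Subgroup X) : Set X), n * x * n⁻¹ = y

section Two

variable (h : CentralInter H) (hO : Cfsg.oddCore H = ⊥)
include h hO

omit hO in
/-- Every Sylow 2-subgroup centralises the 2-core. -/
theorem sylow_le_centralizer_pCore {S : Sylow 2 H} (hnn : ∃ T : Sylow 2 H, T ≠ S) (T : Sylow 2 H) :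
    (T : Subgroup H) ≤ centralizer (Cfsg.pCore 2 H : Set H) := by
  obtain ⟨T', hT'⟩ : ∃ T' : Sylow 2 H, T' ≠ T := by
    obtain ⟨T₁, hT₁⟩ := hnn
    by_cases e : S = T
    · exact ⟨T₁, e ▸ hT₁⟩
    · exact ⟨S, e⟩
  intro t ht
  exact mem_centralizer_iff.mpr fun r hr =>
    (h T T' hT'.symm r (pCore_le_sylow T hr) (pCore_le_sylow T' hr) t ht).symm

omit h in
/-- A normal Sylow 2-subgroup excludes components. -/
theorem no_component {S : Sylow 2 H} (hn : ∀ T : Sylow 2 H, T = S) (L : Subgroup H) :
    ¬ Cfsg.IsComponent L := by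
  intro hL
  obtain ⟨k, -, hk⟩ := exists_moved hO hL S
  exact hk (by rw [hn (k • S)])

omit h in
theorem centralizer_pCore_le_of_no_component (hno : ∀ L : Subgroup H, ¬ Cfsg.IsComponent L) :
    centralizer (Cfsg.pCore 2 H : Set H) ≤ Cfsg.pCore 2 H := fun _ hc =>
  mem_pCore_of_centralizes hO (fun L hL => absurd hL (hno L)) hc

theorem exists_component {S : Sylow 2 H} (hnn : ∃ T : Sylow 2 H, T ≠ S) :
    ∃ K : Subgroup H, Cfsg.IsComponent K := by
  by_contra hno
  push Not at hno
  obtain ⟨T, hT⟩ := hnn
  have hle : ∀ U : Sylow 2 H, (U : Subgroup H) = Cfsg.pCore 2 H := fun U =>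
    le_antisymm ((sylow_le_centralizer_pCore h ⟨T, hT⟩ U).trans
      (centralizer_pCore_le_of_no_component hO hno)) (pCore_le_sylow U)
  exact hT (Sylow.ext ((hle T).trans (hle S).symm))

/-- There is at most one component. -/
theorem component_unique {S : Sylow 2 H} (hS : ¬ IsMulCommutative ↥(S : Subgroup H))
    (hnn : ∃ T : Sylow 2 H, T ≠ S) {K L : Subgroup H} (hK : Cfsg.IsComponent K)
    (hL : Cfsg.IsComponent L) : L = K := by
  classical
  by_contra hne
  have hother : ∀ M : Subgroup H, Cfsg.IsComponent M → ∃ N : Subgroup H, Cfsg.IsComponent N ∧ N ≠ M := by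
    intro M _
    by_cases e : M = K
    · exact ⟨L, hL, e ▸ hne⟩
    · exact ⟨K, hK, Ne.symm e⟩
  -- the intersections of `S` with the components are central
  have hcen : ∀ M : Subgroup H, Cfsg.IsComponent M → ∀ p ∈ (S : Subgroup H), p ∈ M →
      ∀ s ∈ (S : Subgroup H), s * p = p * s := by
    intro M hM p hpS hpM s hs
    obtain ⟨N, hN, hNM⟩ := hother M hM
    obtain ⟨k, hk, hkS⟩ := exists_moved hO hN S
    have hcomm := Components.components_commute hN hM hNM
    have hpk : p ∈ ((k • S : Sylow 2 H) : Subgroup H) := by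
      rw [mem_smul_iff]
      have e : k * p = p * k := Components.commute_of_commutator_eq_bot hcomm hk hpM
      rw [mul_assoc, ← e, inv_mul_cancel_left]
      exact hpS
    exact h S (k • S) (fun e => hkS (by rw [← e])) p hpS hpk s hs
  -- `S` normalises every component
  have hnorm : ∀ M : Subgroup H, Cfsg.IsComponent M → ∀ s ∈ (S : Subgroup H), s ∈ normalizer (M : Set H) := by
    intro M hM s hs
    obtain ⟨p, hpS, hpM, hp⟩ := exists_noncentral hO hM S
    have hM' := Components.component_conj hM s
    by_cases e : M.map (MulAut.conj s).toMonoidHom = M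
    · exact Components.mem_normalizer_of_map_conj_eq e
    · exfalso
      have hp' : p ∈ M.map (MulAut.conj s).toMonoidHom := ⟨p, hpM, by
        show s * p * s⁻¹ = p
        rw [hcen M hM p hpS hpM s hs, mul_inv_cancel_right]⟩
      exact hp fun l hl =>
        (Components.commute_of_commutator_eq_bot (Components.components_commute hM' hM e) hp' hl).symm
  have hR := sylow_le_centralizer_pCore h hnn S
  refine hS ⟨⟨fun a b => Subtype.ext ?_⟩⟩
  obtain ⟨s, hs⟩ := a
  obtain ⟨t, ht⟩ := b
  show s * t = t * s
  have key : ∀ Ls : Finset (Subgroup H), (∀ M ∈ Ls, Cfsg.IsComponent M) →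
      ∃ g ∈ centralizer ((S : Subgroup H) : Set H), g ∈ centralizer (Cfsg.pCore 2 H : Set H) ∧
        (∀ M, Cfsg.IsComponent M → M ∉ Ls → g ∈ centralizer (M : Set H)) ∧
        ∀ M ∈ Ls, s * g ∈ centralizer (M : Set H) := by
    intro Ls
    induction Ls using Finset.induction_on with
    | empty =>
      intro _
      exact ⟨1, one_mem _, one_mem _, fun M _ _ => one_mem _, fun M hM => by simp at hM⟩
    | @insert M Ls hni ih =>
      intro hall
      obtain ⟨g, hgS, hgR, hgout, hg⟩ := ih fun N hN => hall N (Finset.mem_insert_of_mem hN)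
      have hM := hall M (Finset.mem_insert_self _ _)
      obtain ⟨a, haS, haM, hsa⟩ := exists_inner hO hM S hs (hnorm M hM s hs)
        (fun x hx hxM y hy hyM l _ => by
          rw [hcen M hM y hy hyM x hx]
          simp)
        (fun p hp hpM l _ => by
          rw [hcen M hM p hp hpM s hs]
          simp)
      have haS' : a ∈ centralizer ((S : Subgroup H) : Set H) :=
        mem_centralizer_iff.mpr fun x hx => hcen M hM a haS haM x hx
      have haR : a ∈ centralizer (Cfsg.pCore 2 H : Set H) := hR haS
      have hgM := hgout M hM hni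
      refine ⟨g * a⁻¹, mul_mem hgS (inv_mem haS'), mul_mem hgR (inv_mem haR), ?_, ?_⟩
      · intro N hN hNi
        rw [Finset.mem_insert, not_or] at hNi
        exact mul_mem (hgout N hN hNi.2) (inv_mem (commutator_eq_bot_iff_le_centralizer.mp
          (Components.components_commute hM hN (Ne.symm hNi.1)) haM))
      · intro N hN
        rcases Finset.mem_insert.mp hN with rfl | hN
        · have e : s * (g * a⁻¹) = s * a⁻¹ * g := by
            have : g * a⁻¹ = a⁻¹ * g := (mem_centralizer_iff.mp hgM a⁻¹ (inv_mem haM)).symm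
            rw [this, mul_assoc]
          rw [e]
          exact mul_mem hsa hgM
        · have hne' : M ≠ N := fun e => hni (e ▸ hN)
          rw [← mul_assoc]
          exact mul_mem (hg N hN) (inv_mem (commutator_eq_bot_iff_le_centralizer.mp
            (Components.components_commute hM (hall N (Finset.mem_insert_of_mem ‹_›)) hne') haM))
  obtain ⟨g, hgS, hgR, -, hg⟩ := key (Set.toFinite {M : Subgroup H | Cfsg.IsComponent M}).toFinset
    fun M hM => by simpa using hM
  have hsg : s * g ∈ Cfsg.pCore 2 H := mem_pCore_of_centralizes hO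
    (fun M hM => hg M (by simpa using hM)) (mul_mem (hR hs) hgR)
  have hsgS : s * g ∈ centralizer ((S : Subgroup H) : Set H) := mem_centralizer_iff.mpr fun x hx =>
    (mem_centralizer_iff.mp (hR hx) _ hsg).symm
  have hsC : s ∈ centralizer ((S : Subgroup H) : Set H) := by
    simpa using mul_mem hsgS (inv_mem hgS)
  exact (mem_centralizer_iff.mp hsC t ht).symm

theorem component_normal {S : Sylow 2 H} (hS : ¬ IsMulCommutative ↥(S : Subgroup H))
    (hnn : ∃ T : Sylow 2 H, T ≠ S) {K : Subgroup H} (hK : Cfsg.IsComponent K) : K.Normal :=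
  normalizer_eq_top_iff.mp (eq_top_iff.mpr fun g _ => Components.mem_normalizer_of_map_conj_eq
    (component_unique h hO hS hnn hK (Components.component_conj hK g)))

end Two

end Cfsg.Agent.H91.CI
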