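import Cfsg.Agent.H91.CI.LocalBasic

/-!
# Core-free groups with central Sylow 2-intersections: acting on the component

An element that normalises a Sylow 2-subgroup, centralises its part in the component and fixes a second
such part centralises the component, when the component's Sylow 2-subgroups are transitive on the others.
-/

set_option autoImplicit false
set_option linter.style.haveILetI false
set_option linter.unusedSectionVars false

namespace Cfsg.Agent.H91.CI

open Subgroup Cfsg.Agent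
open scoped Pointwise commutatorElement IsMulCommutative
open Cfsg.Agent.H76.PostBender (SylTrans)

universe u

variable {H : Type u} [Group H] [Finite H]

local instance fact_two_localComp : Fact (Nat.Prime 2) := ⟨Nat.prime_two⟩

section Cong

variable {K : Subgroup H} [K.Normal]

theorem mem_smul_inf {T : Sylow 2 H} {g x : H} :
    x ∈ ((g • T : Sylow 2 H) : Subgroup H) ⊓ K ↔ g⁻¹ * x * g ∈ (T : Subgroup H) ⊓ K := by
  rw [mem_inf, mem_inf, mem_smul_iff]
  exact and_congr_right fun _ =>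
    ⟨fun hx => Normal.conj_mem' inferInstance x hx g, fun hx => by
      have := Normal.conj_mem (H := K) inferInstance _ hx g
      rwa [show g * (g⁻¹ * x * g) * g⁻¹ = x by group] at this⟩

/-- Conjugation respects the parts in a normal subgroup. -/
theorem inf_smul_congr {T T' : Sylow 2 H} (e : (T : Subgroup H) ⊓ K = (T' : Subgroup H) ⊓ K) (g : H) :
    ((g • T : Sylow 2 H) : Subgroup H) ⊓ K = ((g • T' : Sylow 2 H) : Subgroup H) ⊓ K := by
  ext x
  rw [mem_smul_inf, mem_smul_inf, e]

theorem mem_normalizer_inf {T : Sylow 2 H} {g : H}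
    (e : ((g • T : Sylow 2 H) : Subgroup H) ⊓ K = (T : Subgroup H) ⊓ K) :
    g ∈ normalizer (((T : Subgroup H) ⊓ K : Subgroup H) : Set H) := by
  refine mem_normalizer_iff.mpr fun x => ?_
  conv_rhs => rw [← e, mem_smul_inf, show g⁻¹ * (g * x * g⁻¹) * g = x by group]

end Cong

variable (hO : Cfsg.oddCore H = ⊥) {K : Subgroup H} [K.Normal] (hK : Cfsg.IsComponent K)
include hO hK

/-- An element fixing every Sylow 2-subgroup's part in the component centralises it. -/
theorem mem_centralizer_of_fixes (S : Sylow 2 H) {g : H}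
    (hg : ∀ T : Sylow 2 H, ((g • T : Sylow 2 H) : Subgroup H) ⊓ K = (T : Subgroup H) ⊓ K) :
    g ∈ centralizer (K : Set H) := by
  have hgi : ∀ T : Sylow 2 H, ((g⁻¹ • T : Sylow 2 H) : Subgroup H) ⊓ K = (T : Subgroup H) ⊓ K := fun T => by
    have := inf_smul_congr (hg T) g⁻¹
    rw [inv_smul_smul] at this
    exact this.symm
  let M : Subgroup ↥K :=
    { carrier := {k | ∀ T : Sylow 2 H, (((k : H) • T : Sylow 2 H) : Subgroup H) ⊓ K = (T : Subgroup H) ⊓ K}
      one_mem' := fun T => by rw [Subgroup.coe_one, one_smul]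
      mul_mem' := fun {a b} ha hb T => by
        rw [Subgroup.coe_mul, mul_smul, ha, hb]
      inv_mem' := fun {a} ha T => by
        have := inf_smul_congr (ha T) (a : H)⁻¹
        rw [inv_smul_smul] at this
        rw [Subgroup.coe_inv]
        exact this.symm }
  haveI : M.Normal := ⟨fun k hk a T => by
    rw [Subgroup.coe_mul, Subgroup.coe_mul, Subgroup.coe_inv, mul_smul, mul_smul]
    have := inf_smul_congr (hk ((a : H)⁻¹ • T)) (a : H)
    rw [smul_inv_smul] at this
    exact this⟩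
  have htop : M ≠ ⊤ := by
    intro e
    obtain ⟨k, hk, hne⟩ := exists_moved hO hK S
    exact hne ((e ▸ mem_top (⟨k, hk⟩ : ↥K) : (⟨k, hk⟩ : ↥K) ∈ M) S)
  have hMc := Components.qs_normal_le_center hK.2 M htop
  refine mem_centralizer_of_commutator_center (Components.component_perfect hK) fun k hk => ?_
  have hmem : g * k * g⁻¹ * k⁻¹ ∈ K := K.mul_mem (Normal.conj_mem inferInstance k hk g) (K.inv_mem hk)
  refine ⟨hmem, fun l hl => ?_⟩
  have hM : (⟨_, hmem⟩ : ↥K) ∈ M := fun T => by
    show ((g * k * g⁻¹ * k⁻¹) • T : Sylow 2 H).toSubgroup ⊓ K = _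
    rw [mul_smul, mul_smul, mul_smul, hg]
    have := inf_smul_congr (hgi (k⁻¹ • T)) k
    rw [smul_inv_smul] at this
    exact this
  exact congrArg Subtype.val (mem_center_iff.mp (hMc hM) ⟨l, hl⟩)

/-- The part in the component is a maximal 2-subgroup of it. -/
theorem inf_eq_of_le (T T₁ : Sylow 2 H) (hle : (T : Subgroup H) ⊓ K ≤ (T₁ : Subgroup H)) :
    (T₁ : Subgroup H) ⊓ K = (T : Subgroup H) ⊓ K := by
  obtain ⟨P, hP⟩ := exists_sylow_component hK T
  have h1 := P.3 (T₁.isPGroup'.comap_of_injective K.subtype K.subtype_injective) (fun x hx => by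
    rw [hP] at hx
    exact hle ⟨hx, x.2⟩)
  rw [hP] at h1
  exact subgroupOf_inj.mp h1

/-- Transitivity passes from the simple quotient to the parts in the component. -/
theorem exists_smul_inf (htr : SylTrans 2 (↥K ⧸ center ↥K)) (S T T' : Sylow 2 H)
    (hT : (T : Subgroup H) ⊓ K ≠ (S : Subgroup H) ⊓ K) (hT' : (T' : Subgroup H) ⊓ K ≠ (S : Subgroup H) ⊓ K) :
    ∃ q ∈ (S : Subgroup H), q ∈ K ∧
      ((q • T : Sylow 2 H) : Subgroup H) ⊓ K = (T' : Subgroup H) ⊓ K := by
  haveI := component_perfect_inst hK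
  set π := QuotientGroup.mk' (center ↥K) with hπ
  have hπs : Function.Surjective π := QuotientGroup.mk'_surjective _
  have hcle : ∀ P : Sylow 2 ↥K, center ↥K ≤ (P : Subgroup ↥K) := fun P x hx => by
    obtain ⟨k, hk⟩ := (show IsPGroup 2 ↥(Cfsg.pCore 2 H) from Components.isPGroup_pCore 2)
      ⟨x, center_component_le hO hK x.2 fun l hl => congrArg Subtype.val (mem_center_iff.mp hx ⟨l, hl⟩)⟩
    exact mem_of_commutes (Subtype.ext (congrArg Subtype.val hk : (x : H) ^ 2 ^ k = 1))
      fun t _ => mem_center_iff.mp hx t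
  have hinj : ∀ P P' : Sylow 2 ↥K, P.mapSurjective hπs = P'.mapSurjective hπs → P = P' := by
    intro P P' e
    refine Sylow.ext ?_
    have := congrArg (fun U : Sylow 2 (↥K ⧸ center ↥K) => (U : Subgroup (↥K ⧸ center ↥K)).comap π) e
    simp only [Sylow.coe_mapSurjective, comap_map_eq, hπ, QuotientGroup.ker_mk'] at this
    rwa [sup_eq_left.mpr (hcle P), sup_eq_left.mpr (hcle P')] at this
  obtain ⟨P, hP⟩ := exists_sylow_component hK S
  obtain ⟨P₁, hP₁⟩ := exists_sylow_component hK T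
  obtain ⟨P₂, hP₂⟩ := exists_sylow_component hK T'
  obtain ⟨y, hy, e⟩ := htr (P.mapSurjective hπs) (P₁.mapSurjective hπs) (P₂.mapSurjective hπs)
    (fun e => hT (subgroupOf_inj.mp (hP₁.symm.trans ((congrArg Sylow.toSubgroup (hinj _ _ e)).trans hP))))
    (fun e => hT' (subgroupOf_inj.mp (hP₂.symm.trans ((congrArg Sylow.toSubgroup (hinj _ _ e)).trans hP))))
  rw [Sylow.coe_mapSurjective] at hy
  obtain ⟨q, hq, rfl⟩ := hy
  have e' : (q • P₁).mapSurjective hπs = π q • P₁.mapSurjective hπs := by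
    refine Sylow.ext ?_
    show ((P₁ : Subgroup ↥K).map (MulAut.conj q).toMonoidHom).map π =
      ((P₁ : Subgroup ↥K).map π).map (MulAut.conj (π q)).toMonoidHom
    rw [map_map, map_map]
    exact congrArg (fun φ => (P₁ : Subgroup ↥K).map φ) (MonoidHom.ext fun y => by simp)
  have e2 : q • P₁ = P₂ := hinj _ _ (e'.trans e)
  rw [hP] at hq
  refine ⟨q, hq, q.2, ?_⟩
  ext x
  rw [mem_smul_inf]
  constructor
  · rintro ⟨hx, hxK⟩
    have hxK' : x ∈ K := by
      have := Normal.conj_mem (H := K) inferInstance _ hxK (q : H)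
      rwa [show (q : H) * ((q : H)⁻¹ * x * q) * (q : H)⁻¹ = x by group] at this
    have : (⟨x, hxK'⟩ : ↥K) ∈ ((q • P₁ : Sylow 2 ↥K) : Subgroup ↥K) := by
      rw [mem_smul_iff, hP₁]
      exact hx
    rw [e2, hP₂] at this
    exact ⟨this, hxK'⟩
  · rintro ⟨hx, hxK⟩
    have : (⟨x, hxK⟩ : ↥K) ∈ ((q • P₁ : Sylow 2 ↥K) : Subgroup ↥K) := by
      rw [e2, hP₂]
      exact hx
    rw [mem_smul_iff, hP₁] at this
    exact ⟨this, Normal.conj_mem' inferInstance x hxK q⟩

omit hK hO in
theorem smul_eq_self_of_mem {S : Sylow 2 H} {g : H} (hg : g ∈ normalizer ((S : Subgroup H) : Set H)) :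
    g • S = S :=
  Sylow.smul_eq_iff_mem_normalizer.mpr hg

/-- Fixing two parts and centralising the first one means centralising the component. -/
theorem mem_centralizer_of_fixes_two (htr : SylTrans 2 (↥K ⧸ center ↥K)) (S T₀ : Sylow 2 H)
    (hT₀ : (T₀ : Subgroup H) ⊓ K ≠ (S : Subgroup H) ⊓ K) {g : H}
    (hgS : g ∈ normalizer ((S : Subgroup H) : Set H))
    (hgc : ∀ q ∈ (S : Subgroup H), q ∈ K → g * q = q * g)
    (hg : ((g • T₀ : Sylow 2 H) : Subgroup H) ⊓ K = (T₀ : Subgroup H) ⊓ K) :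
    g ∈ centralizer (K : Set H) := by
  refine mem_centralizer_of_fixes hO hK S fun T => ?_
  by_cases hT : (T : Subgroup H) ⊓ K = (S : Subgroup H) ⊓ K
  · rw [inf_smul_congr hT g, smul_eq_self_of_mem hgS, hT]
  · obtain ⟨q, hqS, hqK, e⟩ := exists_smul_inf hO hK htr S T₀ T hT₀ hT
    calc ((g • T : Sylow 2 H) : Subgroup H) ⊓ K = ((g • q • T₀ : Sylow 2 H) : Subgroup H) ⊓ K :=
          (inf_smul_congr e g).symm
      _ = ((q • g • T₀ : Sylow 2 H) : Subgroup H) ⊓ K := by rw [← mul_smul, hgc q hqS hqK, mul_smul]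
      _ = ((q • T₀ : Sylow 2 H) : Subgroup H) ⊓ K := inf_smul_congr hg q
      _ = _ := e

/-- An element of odd order centralising `S` centralises the component. -/
theorem mem_centralizer_of_odd (htr : SylTrans 2 (↥K ⧸ center ↥K)) (S : Sylow 2 H) {d : H}
    (hd : Odd (orderOf d)) (hdS : d ∈ centralizer ((S : Subgroup H) : Set H)) :
    d ∈ centralizer (K : Set H) := by
  obtain ⟨k, hk, hmov⟩ := exists_moved hO hK S
  set T₀ := k • S with hT₀
  have hdN := centralizer_le_normalizer ((S : Subgroup H) : Set H) hdS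
  have hne : ((d • T₀ : Sylow 2 H) : Subgroup H) ⊓ K ≠ (S : Subgroup H) ⊓ K := fun e => hmov (by
    have := inf_smul_congr e d⁻¹
    rw [inv_smul_smul, smul_eq_self_of_mem (inv_mem hdN)] at this
    exact this)
  obtain ⟨q, hqS, hqK, e⟩ := exists_smul_inf hO hK htr S T₀ (d • T₀) hmov hne
  have hdq : Commute d q := (mem_centralizer_iff.mp hdS q hqS).symm
  have hpow : ∀ i : ℕ, ((q ^ i • T₀ : Sylow 2 H) : Subgroup H) ⊓ K =
      ((d ^ i • T₀ : Sylow 2 H) : Subgroup H) ⊓ K := by
    intro i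
    induction i with
    | zero => simp only [pow_zero]
    | succ i ih =>
      calc ((q ^ (i + 1) • T₀ : Sylow 2 H) : Subgroup H) ⊓ K
          = ((q • q ^ i • T₀ : Sylow 2 H) : Subgroup H) ⊓ K := by rw [pow_succ', mul_smul]
        _ = ((q • d ^ i • T₀ : Sylow 2 H) : Subgroup H) ⊓ K := inf_smul_congr ih q
        _ = ((d ^ i • q • T₀ : Sylow 2 H) : Subgroup H) ⊓ K := by
            rw [← mul_smul, ← (hdq.pow_left i).eq, mul_smul]
        _ = ((d ^ i • d • T₀ : Sylow 2 H) : Subgroup H) ⊓ K := inf_smul_congr e _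
        _ = _ := by rw [← mul_smul, ← pow_succ]
  have hfix : ∀ j : ℕ, (((q ^ orderOf d) ^ j • T₀ : Sylow 2 H) : Subgroup H) ⊓ K = (T₀ : Subgroup H) ⊓ K := by
    intro j
    rw [← pow_mul, hpow, pow_mul, pow_orderOf_eq_one, one_pow, one_smul]
  obtain ⟨n, hn⟩ := exists_orderOf_pow hqS
  obtain ⟨a, ha⟩ := exists_pow_eq_self_of_coprime (x := q) (n := orderOf d)
    (Nat.Coprime.coprime_dvd_right (orderOf_dvd_of_pow_eq_one hn)
      ((Nat.coprime_two_right.mpr hd).pow_right n))
  have hfix' := hfix a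
  rw [ha, e] at hfix'
  exact mem_centralizer_of_fixes_two hO hK htr S T₀ hmov hdN
    (fun x hx _ => (mem_centralizer_iff.mp hdS x hx).symm) hfix'

end Cfsg.Agent.H91.CI
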