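import Cfsg.Agent.H91.CI.LocalComp
import Cfsg.Agent.H91.CI.Cover

/-!
# Core-free groups with central Sylow 2-intersections: the two cases for the component

Either the component has abelian Sylow 2-subgroups modulo its centre, and then `zInv S` lies in the
2-core, or it has a strongly embedded subgroup modulo its centre, and then every Sylow 2-subgroup is the
product of its part in the component and the 2-core.
-/

set_option autoImplicit false
set_option linter.style.haveILetI false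
set_option linter.unusedSectionVars false

namespace Cfsg.Agent.H91.CI

open Subgroup Cfsg.Agent
open scoped Pointwise commutatorElement IsMulCommutative
open Cfsg.Agent.H76.PostBender (SylTrans)

universe u

variable {H : Type u} [Group H] [Finite H]

local instance fact_two_localSplit : Fact (Nat.Prime 2) := ⟨Nat.prime_two⟩

/-- The part of `S` in `K` is abelian modulo the centre of `K`. -/
def AbModCenter (S : Sylow 2 H) (K : Subgroup H) : Prop :=
  ∀ a ∈ (S : Subgroup H), a ∈ K → ∀ b ∈ (S : Subgroup H), b ∈ K → ∀ l ∈ K, Commute l (a * b * a⁻¹ * b⁻¹)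

variable (h : CentralInter H) (hO : Cfsg.oddCore H = ⊥) (S : Sylow 2 H)
  (hS : ¬ IsMulCommutative ↥(S : Subgroup H)) (hnn : ∃ T : Sylow 2 H, T ≠ S)
  {K : Subgroup H} [K.Normal] (hK : Cfsg.IsComponent K)
include h hO hS hnn hK

/-- An element centralising the component and the 2-core lies in the 2-core. -/
theorem mem_pCore_of_component {c : H} (hcK : c ∈ centralizer (K : Set H))
    (hcR : c ∈ centralizer (Cfsg.pCore 2 H : Set H)) : c ∈ Cfsg.pCore 2 H :=
  mem_pCore_of_centralizes hO (fun L hL => by rw [component_unique h hO hS hnn hK hL]; exact hcK) hcR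

/-- An element of `S` inducing on the component a power of its part in `K` is such a power times a
2-core element. -/
theorem exists_mul_of_inner (hab : AbModCenter S K) {s : H} (hs : s ∈ (S : Subgroup H))
    (hfix : ∀ p ∈ (S : Subgroup H), p ∈ K → ∀ l ∈ K, Commute l (s * p * s⁻¹ * p⁻¹)) :
    ∃ k ∈ (S : Subgroup H), k ∈ K ∧ s * k⁻¹ ∈ Cfsg.pCore 2 H := by
  obtain ⟨k, hkS, hkK, hc⟩ := exists_inner hO hK S hs
    (Components.le_normalizer_of_normal (A := K) ⊤ (mem_top s)) hab hfix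
  exact ⟨k, hkS, hkK, mem_pCore_of_component h hO S hS hnn hK hc
    (mul_mem (sylow_le_centralizer_pCore h hnn S hs) (inv_mem (sylow_le_centralizer_pCore h hnn S hkS)))⟩

/-- Case of an abelian image: the central involutions lie in the 2-core. -/
theorem zInv_le_pCore_of_ab (hW : AbFacts.{u}) (hab : AbModCenter S K) :
    zInv (S : Subgroup H) ≤ Cfsg.pCore 2 H := by
  intro a ha
  by_contra haR
  haveI hsimp : IsSimpleGroup (↥K ⧸ center ↥K) := hK.2.2
  obtain ⟨k, hkS, hkK, hak⟩ := exists_mul_of_inner h hO S hS hnn hK hab ha.1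
    (fun p hp _ l _ => by
      rw [← ha.2.2 p hp]
      simp)
  have hRC : ∀ r ∈ Cfsg.pCore 2 H, ∀ s ∈ (S : Subgroup H), s * r = r * s := fun r hr s hs =>
    (mem_centralizer_iff.mp (sylow_le_centralizer_pCore h hnn S hs) r hr).symm
  have hkc : ∀ s ∈ (S : Subgroup H), s * k = k * s := fun s hs => by
    have h1 : Commute s a := ha.2.2 s hs
    have h2 : Commute s (a * k⁻¹) := hRC _ hak s hs
    have := (h2.inv_right.mul_right h1)
    rwa [show (a * k⁻¹)⁻¹ * a = k by group] at this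
  obtain ⟨P, hP⟩ := exists_sylow_component hK S
  set π := QuotientGroup.mk' (center ↥K) with hπ
  have hπs : Function.Surjective π := QuotientGroup.mk'_surjective _
  have hπ1 : ∀ {x : ↥K}, π x = 1 ↔ ∀ l ∈ K, Commute l (x : H) := fun {x} => by
    rw [hπ, QuotientGroup.mk'_apply, QuotientGroup.eq_one_iff, mem_center_iff]
    exact ⟨fun h l hl => congrArg Subtype.val (h ⟨l, hl⟩), fun h l => Subtype.ext (h l l.2).eq⟩
  set Q := P.mapSurjective hπs with hQ
  have hmemQ : ∀ x : ↥K, (x : H) ∈ (S : Subgroup H) → π x ∈ (Q : Subgroup (↥K ⧸ center ↥K)) := fun x hx => by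
    rw [hQ, Sylow.coe_mapSurjective]
    exact mem_map_of_mem π (by rw [hP]; exact hx)
  have hzS : ∀ x : ↥K, π x = 1 → (x : H) ∈ Cfsg.pCore 2 H := fun x hx =>
    center_component_le hO hK x.2 (hπ1.mp hx)
  have hQc : IsMulCommutative ↥(Q : Subgroup (↥K ⧸ center ↥K)) := ⟨⟨fun a b => Subtype.ext (by
    have hh : ∀ y ∈ (Q : Subgroup (↥K ⧸ center ↥K)), ∃ x : ↥K, (x : H) ∈ (S : Subgroup H) ∧ π x = y := fun y hy => by
      rw [hQ, Sylow.coe_mapSurjective] at hy
      obtain ⟨x, hx, rfl⟩ := hy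
      rw [hP] at hx
      exact ⟨x, hx, rfl⟩
    obtain ⟨x, hx, ex⟩ := hh a a.2
    obtain ⟨y, hy, ey⟩ := hh b b.2
    have : π (x * y * x⁻¹ * y⁻¹) = 1 := hπ1.mpr (hab x hx x.2 y hy y.2)
    show (a : ↥K ⧸ center ↥K) * b = b * a
    rw [← ex, ← ey]
    rw [map_mul, map_mul, map_mul, map_inv, map_inv, mul_inv_eq_one, mul_inv_eq_iff_eq_mul] at this
    exact this)⟩⟩
  have hk1 : π ⟨k, hkK⟩ ≠ 1 := fun e => haR (by
    have := mul_mem hak (hzS _ e)
    simpa using this)
  -- the part of `S` in `K` is central in `S`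
  have hcen : ∀ p ∈ (S : Subgroup H), p ∈ K → ∀ s ∈ (S : Subgroup H), s * p = p * s := by
    intro p hpS hpK s hs
    by_cases hp1 : π ⟨p, hpK⟩ = 1
    · exact hRC p (hzS _ hp1) s hs
    obtain ⟨n, hn, en⟩ := hW (↥K ⧸ center ↥K) hsimp (Components.qs_quotient_not_comm hK.2) Q hQc _
      (hmemQ ⟨k, hkK⟩ hkS) _ (hmemQ ⟨p, hpK⟩ hpS) hk1 hp1
    obtain ⟨n, rfl⟩ := hπs n
    have hz : π (n * ⟨k, hkK⟩ * n⁻¹ * (⟨p, hpK⟩ : ↥K)⁻¹) = 1 := by
      rw [map_mul, map_mul, map_mul, map_inv, map_inv, en, mul_inv_cancel]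
    set z : H := (n : H) * k * (n : H)⁻¹ * p⁻¹ with hzdef
    have hzR : z ∈ Cfsg.pCore 2 H := hzS _ hz
    have hq : (n : H) * k * (n : H)⁻¹ ∈ (S : Subgroup H) := by
      have := mul_mem (pCore_le_sylow S hzR) hpS
      rwa [hzdef, inv_mul_cancel_right] at this
    obtain ⟨hqc, -⟩ := exists_conj_normalizer h hkS hkc hq
    have hep : p = z⁻¹ * ((n : H) * k * (n : H)⁻¹) := by rw [hzdef]; group
    have h1 : Commute s z⁻¹ := hRC _ (inv_mem hzR) s hs
    have h2 : Commute s ((n : H) * k * (n : H)⁻¹) := hqc s hs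
    rw [hep]
    exact (h1.mul_right h2).eq
  refine hS ⟨⟨fun s t => Subtype.ext ?_⟩⟩
  show (s : H) * t = t * s
  obtain ⟨q, hqS, hqK, hr⟩ := exists_mul_of_inner h hO S hS hnn hK hab s.2
    (fun p hp hpK l _ => by
      rw [hcen p hp hpK s s.2]
      simp)
  have h1 : Commute (t : H) ((s : H) * q⁻¹) := hRC _ hr t t.2
  have h2 : Commute (t : H) q := hcen q hqS hqK t t.2
  have := h1.mul_right h2
  rw [inv_mul_cancel_right] at this
  exact this.eq.symm

/-- Case of a non-abelian image: the quotient by the centre is as in Bender's theorem. -/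
theorem benderFacts_of_not_ab (hIH : SEBelow.{u} (Nat.card H)) (hab : ¬ AbModCenter S K) :
    BenderFacts (↥K ⧸ center ↥K) ∧ ∀ P : Sylow 2 ↥K, (P : Subgroup ↥K) = (S : Subgroup H).subgroupOf K →
      ¬ IsMulCommutative ↥((P.mapSurjective (QuotientGroup.mk'_surjective (center ↥K)) :
        Sylow 2 (↥K ⧸ center ↥K)) : Subgroup (↥K ⧸ center ↥K)) := by
  haveI hsimp : IsSimpleGroup (↥K ⧸ center ↥K) := hK.2.2
  have hna : ∀ P : Sylow 2 ↥K, (P : Subgroup ↥K) = (S : Subgroup H).subgroupOf K →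
      ¬ IsMulCommutative ↥((P.mapSurjective (QuotientGroup.mk'_surjective (center ↥K)) :
        Sylow 2 (↥K ⧸ center ↥K)) : Subgroup (↥K ⧸ center ↥K)) := by
    intro P hP hc
    refine hab fun a ha haK b hb hbK l hl => ?_
    have hm : ∀ x : ↥K, (x : H) ∈ (S : Subgroup H) → QuotientGroup.mk' (center ↥K) x ∈
        ((P.mapSurjective (QuotientGroup.mk'_surjective (center ↥K)) :
          Sylow 2 (↥K ⧸ center ↥K)) : Subgroup (↥K ⧸ center ↥K)) := fun x hx => by
      rw [Sylow.coe_mapSurjective]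
      exact mem_map_of_mem _ (by rw [hP]; exact hx)
    have h1 := congrArg Subtype.val (hc.is_comm.comm ⟨_, hm ⟨a, haK⟩ ha⟩ ⟨_, hm ⟨b, hbK⟩ hb⟩)
    simp only [Subgroup.coe_mul] at h1
    have h2 : QuotientGroup.mk' (center ↥K) (⟨a, haK⟩ * ⟨b, hbK⟩ * (⟨a, haK⟩)⁻¹ * (⟨b, hbK⟩)⁻¹) = 1 := by
      rw [map_mul, map_mul, map_mul, h1, map_inv, map_inv]
      group
    exact congrArg Subtype.val (mem_center_iff.mp ((QuotientGroup.eq_one_iff _).mp h2) ⟨l, hl⟩)
  obtain ⟨P, hP⟩ := exists_sylow_component hK S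
  obtain ⟨M, hM⟩ := hIH (↥K ⧸ center ↥K)
    ((Nat.card_le_card_of_surjective _ (QuotientGroup.mk'_surjective (center ↥K))).trans
      K.card_le_card_group) hsimp
    ((h.subgroup K).of_surjective (QuotientGroup.mk'_surjective _)) _ (hna P hP)
  exact ⟨benderFacts _ (hna P hP) M hM, hna⟩

/-- Then every element of `S` is a product from its part in `K` and the 2-core. -/
theorem exists_mul_pCore (htr : SylTrans 2 (↥K ⧸ center ↥K)) {f : H} (hf : f ∈ (S : Subgroup H)) :
    ∃ q ∈ (S : Subgroup H), q ∈ K ∧ q⁻¹ * f ∈ Cfsg.pCore 2 H := by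
  obtain ⟨k, hk, hmov⟩ := exists_moved hO hK S
  set T₀ := k • S with hT₀
  have hfN := le_normalizer hf
  have hne : ((f • T₀ : Sylow 2 H) : Subgroup H) ⊓ K ≠ (S : Subgroup H) ⊓ K := fun e => hmov (by
    have := inf_smul_congr e f⁻¹
    rw [inv_smul_smul, smul_eq_self_of_mem (inv_mem hfN)] at this
    exact this)
  obtain ⟨q, hqS, hqK, e⟩ := exists_smul_inf hO hK htr S T₀ (f • T₀) hmov hne
  refine ⟨q, hqS, hqK, ?_⟩
  set g := q⁻¹ * f with hg
  have hgS : g ∈ (S : Subgroup H) := mul_mem (inv_mem hqS) hf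
  have hfix : ((g • T₀ : Sylow 2 H) : Subgroup H) ⊓ K = (T₀ : Subgroup H) ⊓ K := by
    have := inf_smul_congr e.symm q⁻¹
    rw [inv_smul_smul, ← mul_smul] at this
    exact this
  have hgN := mem_normalizer_inf hfix
  obtain ⟨n, hn⟩ := exists_orderOf_pow hgS
  obtain ⟨T₁, hT₁⟩ := ((isPGroup_zpowers hn).to_sup_of_normal_right'
    (T₀.isPGroup'.to_le (inf_le_left : (T₀ : Subgroup H) ⊓ K ≤ (T₀ : Subgroup H))) (zpowers_le.mpr hgN)).exists_le_sylow
  have hgT₁ : g ∈ (T₁ : Subgroup H) := hT₁ (mem_sup_left (mem_zpowers g))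
  have hT₁K := inf_eq_of_le hO hK T₀ T₁ (le_sup_right.trans hT₁)
  have hgc : ∀ s ∈ (S : Subgroup H), s * g = g * s :=
    h S T₁ (fun e => hmov (by rw [e, hT₁K])) g hgS hgT₁
  exact mem_pCore_of_component h hO S hS hnn hK
    (mem_centralizer_of_fixes_two hO hK htr S T₀ hmov (le_normalizer hgS)
      (fun x hx _ => (hgc x hx).symm) hfix)
    (sylow_le_centralizer_pCore h hnn S hgS)

end Cfsg.Agent.H91.CI
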